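import Groth.Agent.ResProp.EF.K863.Dat
import Mathlib.LinearAlgebra.Matrix.NonsingularInverse

/-!
# W3: isomorphisms of the base changes of a free module given by an algebra isomorphism and a matrix

`matV η N : BC x (ι → D) ≃ₗ[R'] BC y (ι → D)` for `η : BC x D ≃ₐ[R'] BC y D`, `N : (Matrix ι ι R')ˣ`:
`matV (bc (Pi.single i 1)) = ∑ j, N j i • bc (Pi.single j 1)`, semilinear over `η`.
-/

set_option autoImplicit false
set_option linter.unusedSectionVars false
set_option linter.style.haveILetI false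

universe u

open Groth.Agent.ResProp.EF.K980 Groth.Agent.ResProp.EF.K863 Groth.Agent.ResProp.EF.K964

noncomputable section

namespace Groth.Agent.ResProp.EF.K567

section

variable {R : Type*} [CommRing R] {D : Type*} [CommRing D] [Algebra R D] {ι : Type*} [Fintype ι] [DecidableEq ι]
  {R' : Type*} [CommRing R'] {x y z : R →+* R'}

/-- the unit vectors -/
def ev (x : R →+* R') (D : Type*) [CommRing D] [Algebra R D] (i : ι) : BC x (ι → D) := bc x (Pi.single i 1)

theorem smul_ev (x : R →+* R') (d : D) (i : ι) : bc x d • ev x D i = bc x (Pi.single i d : ι → D) := by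
  unfold ev
  rw [← BC.bc_smul]
  congr 1
  rw [← Pi.single_smul', smul_eq_mul, mul_one]

/-- coordinates -/
def coordV (x : R →+* R') (D : Type*) [CommRing D] [Algebra R D] (i : ι) : BC x (ι → D) →ₗ[R'] BC x D :=
  BC.map x (LinearMap.proj i : (ι → D) →ₗ[R] D)

theorem coordV_bc (x : R →+* R') (v : ι → D) (i : ι) : coordV x D i (bc x v) = bc x (v i) := BC.map_bc _ _

theorem coordV_smul (x : R →+* R') (d : BC x D) (v : BC x (ι → D)) (i : ι) :
    coordV x D i (d • v) = d * coordV x D i v := by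
  induction d using BC.ind with
  | h0 => rw [zero_smul, map_zero, zero_mul]
  | h2 a b ha hb => rw [add_smul, map_add, ha, hb, add_mul]
  | h1 r a =>
    rw [smul_assoc, map_smul, smul_mul_assoc]
    congr 1
    induction v using BC.ind with
    | h0 => rw [smul_zero, map_zero, mul_zero]
    | h2 v w hv hw => rw [smul_add, map_add, hv, hw, map_add, mul_add]
    | h1 s v =>
      rw [smul_comm (bc x a) s (bc x v), (coordV x D i).map_smul s (bc x a • bc x v), ← BC.bc_smul, coordV_bc,
        (coordV x D i).map_smul s (bc x v), coordV_bc, mul_smul_comm, ← BC.bc_mul]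
      rfl

theorem sum_coordV (x : R →+* R') (v : BC x (ι → D)) : ∑ i, coordV x D i v • ev x D i = v := by
  induction v using BC.ind with
  | h0 => simp only [map_zero, zero_smul, Finset.sum_const_zero]
  | h2 v w hv hw => simp only [map_add, add_smul, Finset.sum_add_distrib, hv, hw]
  | h1 r v =>
    simp only [map_smul, smul_assoc]
    rw [← Finset.smul_sum]
    congr 1
    simp only [coordV_bc, smul_ev]
    rw [← map_sum]
    congr 1
    exact Finset.univ_sum_single v

theorem coordV_ev (x : R →+* R') (i j : ι) : coordV x D j (ev x D i) = if i = j then 1 else 0 := by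
  unfold ev
  rw [coordV_bc]
  by_cases h : i = j
  · subst h
    rw [Pi.single_eq_same, if_pos rfl, BC.bc_one]
  · rw [Pi.single_eq_of_ne (Ne.symm h), if_neg h, map_zero]

theorem ext_coordV {x : R →+* R'} {v w : BC x (ι → D)} (h : ∀ i, coordV x D i v = coordV x D i w) : v = w := by
  rw [← sum_coordV x v, ← sum_coordV x w]
  exact Finset.sum_congr rfl fun i _ => by rw [h]

/-- the underlying linear map -/
def matL (η : BC x D →ₐ[R'] BC y D) (N : Matrix ι ι R') : BC x (ι → D) →ₗ[R'] BC y (ι → D) where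
  toFun v := ∑ i, ∑ j, (N j i • η (coordV x D i v)) • ev y D j
  map_add' v w := by
    simp only [map_add, smul_add, add_smul, Finset.sum_add_distrib]
  map_smul' r v := by
    simp only [map_smul, RingHom.id_apply, Finset.smul_sum]
    refine Finset.sum_congr rfl fun i _ => Finset.sum_congr rfl fun j _ => ?_
    rw [smul_comm (N j i) r, smul_assoc]

theorem matL_apply (η : BC x D →ₐ[R'] BC y D) (N : Matrix ι ι R') (v : BC x (ι → D)) :
    matL η N v = ∑ i, ∑ j, (N j i • η (coordV x D i v)) • ev y D j := rfl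

theorem coordV_matL (η : BC x D →ₐ[R'] BC y D) (N : Matrix ι ι R') (v : BC x (ι → D)) (j : ι) :
    coordV y D j (matL η N v) = ∑ i, N j i • η (coordV x D i v) := by
  rw [matL_apply, map_sum]
  refine Finset.sum_congr rfl fun i _ => ?_
  rw [map_sum, Finset.sum_eq_single j]
  · rw [coordV_smul, coordV_ev, if_pos rfl, mul_one]
  · intro l _ hl
    rw [coordV_smul, coordV_ev, if_neg hl, mul_zero]
  · intro h
    exact absurd (Finset.mem_univ j) h

theorem matL_smul (η : BC x D →ₐ[R'] BC y D) (N : Matrix ι ι R') (d : BC x D) (v : BC x (ι → D)) :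
    matL η N (d • v) = η d • matL η N v := by
  apply ext_coordV
  intro j
  rw [coordV_smul, coordV_matL, coordV_matL, Finset.mul_sum]
  refine Finset.sum_congr rfl fun i _ => ?_
  rw [coordV_smul, map_mul, mul_smul_comm]

theorem matL_ev (η : BC x D →ₐ[R'] BC y D) (N : Matrix ι ι R') (i : ι) :
    matL η N (ev x D i) = ∑ j, N j i • ev y D j := by
  apply ext_coordV
  intro l
  rw [coordV_matL, map_sum]
  rw [Finset.sum_eq_single i]
  · rw [coordV_ev, if_pos rfl, map_one, Finset.sum_eq_single l]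
    · rw [map_smul, coordV_ev, if_pos rfl]
    · intro j _ hj
      rw [map_smul, coordV_ev, if_neg hj, smul_zero]
    · intro h
      exact absurd (Finset.mem_univ l) h
  · intro j _ hj
    rw [coordV_ev, if_neg (Ne.symm hj), map_zero, smul_zero]
  · intro h
    exact absurd (Finset.mem_univ i) h

theorem matL_comp (η : BC x D →ₐ[R'] BC y D) (η' : BC y D →ₐ[R'] BC z D) (N N' : Matrix ι ι R')
    (v : BC x (ι → D)) : matL η' N' (matL η N v) = matL (η'.comp η) (N' * N) v := by
  apply ext_coordV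
  intro l
  rw [coordV_matL, coordV_matL]
  simp only [coordV_matL, map_sum, map_smul, Finset.smul_sum, AlgHom.comp_apply, Matrix.mul_apply, Finset.sum_smul,
    smul_smul]
  rw [Finset.sum_comm]

theorem matL_one (v : BC x (ι → D)) : matL (AlgHom.id R' (BC x D)) (1 : Matrix ι ι R') v = v := by
  apply ext_coordV
  intro l
  rw [coordV_matL, Finset.sum_eq_single l]
  · rw [Matrix.one_apply_eq, one_smul]; rfl
  · intro j _ hj
    rw [Matrix.one_apply_ne (Ne.symm hj), zero_smul]
  · intro h
    exact absurd (Finset.mem_univ l) h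

/-- **the isomorphism** -/
def matV (η : BC x D ≃ₐ[R'] BC y D) (N : (Matrix ι ι R')ˣ) : BC x (ι → D) ≃ₗ[R'] BC y (ι → D) :=
  LinearEquiv.ofLinearMap (matL η.toAlgHom N.1) (matL η.symm.toAlgHom N⁻¹.1)
    (LinearMap.ext fun v => by
      rw [LinearMap.comp_apply, matL_comp, LinearMap.id_apply, Units.mul_inv]
      have : η.toAlgHom.comp η.symm.toAlgHom = AlgHom.id R' (BC y D) :=
        AlgHom.ext fun d => η.apply_symm_apply d
      rw [this, matL_one])
    (LinearMap.ext fun v => by
      rw [LinearMap.comp_apply, matL_comp, LinearMap.id_apply, Units.inv_mul]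
      have : η.symm.toAlgHom.comp η.toAlgHom = AlgHom.id R' (BC x D) :=
        AlgHom.ext fun d => η.symm_apply_apply d
      rw [this, matL_one])

theorem matV_apply (η : BC x D ≃ₐ[R'] BC y D) (N : (Matrix ι ι R')ˣ) (v : BC x (ι → D)) :
    matV η N v = matL η.toAlgHom N.1 v := rfl

theorem matV_ev (η : BC x D ≃ₐ[R'] BC y D) (N : (Matrix ι ι R')ˣ) (i : ι) :
    matV η N (ev x D i) = ∑ j, N.1 j i • ev y D j := matL_ev _ _ _

/-- in the notation of the interface -/
theorem matV_single (η : BC x D ≃ₐ[R'] BC y D) (N : (Matrix ι ι R')ˣ) (i : ι) :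
    matV η N (bc x (Pi.single i (1 : D))) = ∑ j, N.1 j i • bc y (Pi.single j (1 : D) : ι → D) := matL_ev _ _ _

theorem matV_smul (η : BC x D ≃ₐ[R'] BC y D) (N : (Matrix ι ι R')ˣ) (d : BC x D) (v : BC x (ι → D)) :
    matV η N (d • v) = η d • matV η N v := matL_smul _ _ _ _

theorem matV_refl : matV (AlgEquiv.refl : BC x D ≃ₐ[R'] BC x D) (1 : (Matrix ι ι R')ˣ) = LinearEquiv.refl R' _ :=
  LinearEquiv.ext fun v => matL_one v

theorem matV_trans (η : BC x D ≃ₐ[R'] BC y D) (η' : BC y D ≃ₐ[R'] BC z D) (N N' : (Matrix ι ι R')ˣ) :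
    (matV η N).trans (matV η' N') = matV (η.trans η') (N' * N) := by
  refine LinearEquiv.ext fun v => ?_
  rw [LinearEquiv.trans_apply, matV_apply, matV_apply, matV_apply, matL_comp]
  rfl

theorem matV_symm (η : BC x D ≃ₐ[R'] BC y D) (N : (Matrix ι ι R')ˣ) : (matV η N).symm = matV η.symm N⁻¹ :=
  LinearEquiv.ext fun _ => rfl

/-- two semilinear isomorphisms which agree on the unit vectors are equal -/
theorem eq_matV {η : BC x D ≃ₐ[R'] BC y D} {N : (Matrix ι ι R')ˣ} {e : BC x (ι → D) ≃ₗ[R'] BC y (ι → D)}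
    (hs : ∀ (d : BC x D) (v : BC x (ι → D)), e (d • v) = η d • e v)
    (he : ∀ i, e (ev x D i) = ∑ j, N.1 j i • ev y D j) : e = matV η N := by
  refine LinearEquiv.ext fun v => ?_
  rw [← sum_coordV x v, map_sum, map_sum]
  exact Finset.sum_congr rfl fun i _ => by rw [hs, matV_smul, he, matV_ev]

section pull

variable {R'' : Type*} [CommRing R''] {x' y' : R →+* R''} {f : R' →+* R''}

/-- the matrix over the new base ring -/
def mapU (f : R' →+* R'') (N : (Matrix ι ι R')ˣ) : (Matrix ι ι R'')ˣ :=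
  Units.map (f.mapMatrix : Matrix ι ι R' →+* Matrix ι ι R'').toMonoidHom N

@[simp] theorem mapU_val (f : R' →+* R'') (N : (Matrix ι ι R')ˣ) (i j : ι) : (mapU f N).1 i j = f (N.1 i j) := rfl

theorem mapU_one (f : R' →+* R'') : mapU f (1 : (Matrix ι ι R')ˣ) = 1 := map_one _

theorem mapU_mul (f : R' →+* R'') (N N' : (Matrix ι ι R')ˣ) : mapU f (N * N') = mapU f N * mapU f N' := map_mul _ _ _

theorem mapU_inv (f : R' →+* R'') (N : (Matrix ι ι R')ˣ) : mapU f N⁻¹ = (mapU f N)⁻¹ := map_inv _ _

theorem tr_ev (hx : f.comp x = x') (i : ι) : BC.tr f hx (ev x D i) = ev x' D i := BC.tr_bc _ _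

theorem coordV_tr (hx : f.comp x = x') (v : BC x (ι → D)) (i : ι) :
    coordV x' D i (BC.tr f hx v) = BC.tr f hx (coordV x D i v) := (BC.tr_map hx _ v).symm

theorem pullE_matV (hx : f.comp x = x') (hy : f.comp y = y') (η : BC x D ≃ₐ[R'] BC y D) (N : (Matrix ι ι R')ˣ) :
    BC.pullE f hx hy (matV η N) = matV (pullA f hx hy η) (mapU f N) := by
  refine LinearEquiv.toLinearMap_injective (BC.hom_ext_tr hx fun m => ?_)
  change BC.pullE f hx hy (matV η N) (BC.tr f hx m) = matV (pullA f hx hy η) (mapU f N) (BC.tr f hx m)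
  rw [BC.pullE_tr]
  apply ext_coordV
  intro j
  rw [coordV_tr, matV_apply, matV_apply, coordV_matL, coordV_matL, map_sum]
  refine Finset.sum_congr rfl fun i _ => ?_
  rw [LinearMap.map_smulₛₗ, coordV_tr]
  congr 1
  exact (pullA_tr hx hy η (coordV x D i m)).symm

end pull

/-! ### the compatibility with the differentials -/

section compat

/-- `ρ` with `ρ (e_i) = ω i` -/
def rhoOf (ω : ι → Ω[D⁄R]) : (ι → D) →ₗ[D] Ω[D⁄R] := Fintype.linearCombination D ω

theorem rhoOf_single (ω : ι → Ω[D⁄R]) (i : ι) : rhoOf ω (Pi.single i 1) = ω i := by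
  unfold rhoOf
  rw [Fintype.linearCombination_apply_single, one_smul]

theorem rhoBC_ev (ω : ι → Ω[D⁄R]) (i : ι) : rhoBC x (rhoOf ω) (ev x D i) = kmap x (ω i) := by
  unfold ev
  rw [rhoBC_bc, rhoOf_single]

end compat

end

/-! ### the semilinear map of differentials of an algebra map -/

section Om

variable {R' : Type*} [CommRing R'] {S S' S'' : Type*} [CommRing S] [Algebra R' S] [CommRing S'] [Algebra R' S']
  [CommRing S''] [Algebra R' S'']

theorem exists_Om (η : S →ₐ[R'] S') : ∃ G : Ω[S⁄R'] →+ Ω[S'⁄R'], (∀ (a : S) (w : Ω[S⁄R']), G (a • w) = η a • G w) ∧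
    ∀ a : S, G (KaehlerDifferential.D R' S a) = KaehlerDifferential.D R' S' (η a) := by
  letI := η.toRingHom.toAlgebra
  haveI : IsScalarTower R' S S' := IsScalarTower.of_algebraMap_eq' η.comp_algebraMap.symm
  refine ⟨(KaehlerDifferential.map R' R' S S').toAddMonoidHom, fun a w => ?_, fun a => ?_⟩
  · change KaehlerDifferential.map R' R' S S' (a • w) = _
    rw [LinearMap.map_smul, ← algebraMap_smul S' a]
    rfl
  · exact KaehlerDifferential.map_D R' R' S S' a

/-- the semilinear map of differentials -/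
def Om (η : S →ₐ[R'] S') : Ω[S⁄R'] →+ Ω[S'⁄R'] := (exists_Om η).choose

theorem Om_smul (η : S →ₐ[R'] S') (a : S) (w : Ω[S⁄R']) : Om η (a • w) = η a • Om η w := (exists_Om η).choose_spec.1 a w

@[simp] theorem Om_D (η : S →ₐ[R'] S') (a : S) :
    Om η (KaehlerDifferential.D R' S a) = KaehlerDifferential.D R' S' (η a) := (exists_Om η).choose_spec.2 a

theorem eq_Om (η : S →ₐ[R'] S') {G : Ω[S⁄R'] →+ Ω[S'⁄R']} (h1 : ∀ (a : S) (w : Ω[S⁄R']), G (a • w) = η a • G w)
    (h2 : ∀ a : S, G (KaehlerDifferential.D R' S a) = KaehlerDifferential.D R' S' (η a)) : G = Om η := by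
  ext w
  have hw : w ∈ Submodule.span S (Set.range (KaehlerDifferential.D R' S)) := by
    rw [KaehlerDifferential.span_range_derivation]; trivial
  induction hw using Submodule.span_induction with
  | mem y hy =>
    obtain ⟨a, rfl⟩ := hy
    rw [h2, Om_D]
  | zero => rw [map_zero, map_zero]
  | add y z _ _ hy hz => rw [map_add, map_add, hy, hz]
  | smul a y _ hy => rw [h1, Om_smul, hy]

theorem Om_comp (η : S →ₐ[R'] S') (η' : S' →ₐ[R'] S'') (w : Ω[S⁄R']) : Om η' (Om η w) = Om (η'.comp η) w := by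
  have : (Om η').comp (Om η) = Om (η'.comp η) := eq_Om _
    (fun a w => by rw [AddMonoidHom.comp_apply, Om_smul, Om_smul]; rfl)
    (fun a => by rw [AddMonoidHom.comp_apply, Om_D, Om_D]; rfl)
  exact DFunLike.congr_fun this w

theorem Om_id (w : Ω[S⁄R']) : Om (AlgHom.id R' S) w = w := by
  have : AddMonoidHom.id _ = Om (AlgHom.id R' S) := eq_Om _ (fun _ _ => rfl) (fun _ => rfl)
  exact (DFunLike.congr_fun this w).symm

theorem Om_injective (η : S ≃ₐ[R'] S') : Function.Injective (Om η.toAlgHom) := by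
  intro a b h
  have h2 := congrArg (Om η.symm.toAlgHom) h
  have e : η.symm.toAlgHom.comp η.toAlgHom = AlgHom.id R' S := AlgHom.ext fun d => η.symm_apply_apply d
  rwa [Om_comp, Om_comp, e, Om_id, Om_id] at h2

end Om

section compat

variable {R : Type*} [CommRing R] {D : Type*} [CommRing D] [Algebra R D] {ι : Type*} [Fintype ι] [DecidableEq ι]
  {R' : Type*} [CommRing R'] {x y : R →+* R'} {ω : ι → Ω[D⁄R]} {η : BC x D ≃ₐ[R'] BC y D} {N : (Matrix ι ι R')ˣ}

theorem rhoBC_matV (h : ∀ i, Om η.toAlgHom (kmap x (ω i)) = ∑ j, N.1 j i • kmap y (ω j)) (v : BC x (ι → D)) :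
    rhoBC y (rhoOf ω) (matV η N v) = Om η.toAlgHom (rhoBC x (rhoOf ω) v) := by
  conv_lhs => rw [← sum_coordV x v]
  conv_rhs => rw [← sum_coordV x v]
  rw [map_sum, map_sum, map_sum, map_sum]
  refine Finset.sum_congr rfl fun i _ => ?_
  rw [matV_smul, (rhoBC y (rhoOf ω)).map_smul, (rhoBC x (rhoOf ω)).map_smul, Om_smul, rhoBC_ev, h, matV_ev, map_sum]
  congr 1
  refine Finset.sum_congr rfl fun j _ => ?_
  rw [← rhoBC_ev, ← algebraMap_smul (BC y D) (N.1 j i) (ev y D j), (rhoBC y (rhoOf ω)).map_smul, algebraMap_smul]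

/-- **the compatibility criterion** -/
theorem compat_matV (h : ∀ i, Om η.toAlgHom (kmap x (ω i)) = ∑ j, N.1 j i • kmap y (ω j)) (v : BC x (ι → D))
    (d : BC x D) : rhoBC x (rhoOf ω) v = KaehlerDifferential.D R' (BC x D) d ↔
      rhoBC y (rhoOf ω) (matV η N v) = KaehlerDifferential.D R' (BC y D) (η d) := by
  rw [rhoBC_matV h]
  have e : KaehlerDifferential.D R' (BC y D) (η d) = Om η.toAlgHom (KaehlerDifferential.D R' (BC x D) d) :=
    (Om_D η.toAlgHom d).symm
  rw [e]
  exact (Om_injective η).eq_iff.symm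

/-- **the isomorphism of data of an algebra isomorphism and a matrix** -/
def isoDatOfMat (η : BC x D ≃ₐ[R'] BC y D) (N : (Matrix ι ι R')ˣ)
    (h : ∀ i, Om η.toAlgHom (kmap x (ω i)) = ∑ j, N.1 j i • kmap y (ω j)) : IsoDat (rhoOf ω) x y where
  eta := η
  etaV := matV η N
  map_smul := matV_smul η N
  compat := compat_matV h

@[simp] theorem isoDatOfMat_eta (h : ∀ i, Om η.toAlgHom (kmap x (ω i)) = ∑ j, N.1 j i • kmap y (ω j)) :
    (isoDatOfMat η N h).eta = η := rfl

@[simp] theorem isoDatOfMat_etaV (h : ∀ i, Om η.toAlgHom (kmap x (ω i)) = ∑ j, N.1 j i • kmap y (ω j)) :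
    (isoDatOfMat η N h).etaV = matV η N := rfl

end compat

end Groth.Agent.ResProp.EF.K567
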