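import Groth.Agent.ResProp.EF.K567.GpdFun

/-!
# Filtered groupoid extensions (the package consumed by the gluing step)

`FGpd G H good n` : an extension `L → G × H` (`G` = groupoid of the chart, `H` = group functor) with
a filtration `Fil j` (`1 ≤ j ≤ n + 1`) of the kernels whose graded pieces `Q j` are functorial
modules over `G × H`.  In the application `L.Hom B x y` = lifts `ψ : B ⊗_y KK → B ⊗_x KK` of pairs
`(ga, h)`, `Fil j B x = 1 + DD^(j)(B)` over `x`, `Q j B x = gr^j DD ⊗_(R, x) B`.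

All laws which are used hold for all `B`; surjectivity and exactness only for good (flat) points.
-/

namespace Groth.Agent.ResProp.EF.K567

open Groth.Agent.ResProp.EF.K104

universe u

variable {k R : Type u} [CommRing k] [CommRing R] [Algebra k R]

/-- a predicate on points (flatness) -/
def Good (k R : Type u) [CommRing k] [CommRing R] [Algebra k R] :=
  ∀ (B : Type u) [CommRing B] [Algebra k B], (R →ₐ[k] B) → Prop

/-- a functorial module over `G × H` on the points of the chart -/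
structure GMod (G : GpdFun k R) (H : GFun k) where
  /-- values -/
  pt : ∀ (B : Type u) [CommRing B] [Algebra k B], (R →ₐ[k] B) → Type u
  /-- group structure -/
  [grp : ∀ (B : Type u) [CommRing B] [Algebra k B] (x : R →ₐ[k] B), AddCommGroup (pt B x)]
  /-- functoriality -/
  map : ∀ {B C : Type u} [CommRing B] [Algebra k B] [CommRing C] [Algebra k C]
    (f : B →ₐ[k] C) (x : R →ₐ[k] B), pt B x →+ pt C (f.comp x)
  map_id : ∀ {B : Type u} [CommRing B] [Algebra k B] {x : R →ₐ[k] B} (m : pt B x),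
    map (AlgHom.id k B) x m = m
  map_comp : ∀ {B C D : Type u} [CommRing B] [Algebra k B] [CommRing C] [Algebra k C]
    [CommRing D] [Algebra k D] (f : B →ₐ[k] C) (g : C →ₐ[k] D) {x : R →ₐ[k] B}
    (m : pt B x), map (g.comp f) x m = map g (f.comp x) (map f x m)
  /-- the action of `a : y → x` and `h` -/
  act : ∀ {B : Type u} [CommRing B] [Algebra k B] {x y : R →ₐ[k] B},
    G.Hom B x y → H.pt B → pt B y →+ pt B x
  act_one : ∀ {B : Type u} [CommRing B] [Algebra k B] {x : R →ₐ[k] B} (m : pt B x),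
    act (G.one x) 1 m = m
  act_mul : ∀ {B : Type u} [CommRing B] [Algebra k B] {x y z : R →ₐ[k] B}
    (a : G.Hom B x y) (b : G.Hom B y z) (g h : H.pt B) (m : pt B z),
    act (G.mul a b) (g * h) m = act a g (act b h m)
  act_map : ∀ {B C : Type u} [CommRing B] [Algebra k B] [CommRing C] [Algebra k C]
    (f : B →ₐ[k] C) {x y : R →ₐ[k] B} (a : G.Hom B x y) (g : H.pt B) (m : pt B y),
    map f x (act a g m) = act (G.map f a) (H.map f g) (map f y m)

attribute [instance] GMod.grp

/-- a filtered extension of `G × H` -/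
structure FGpd (G : GpdFun k R) (H : GFun k) (good : Good k R) (n : ℕ) where
  /-- the lifts -/
  L : GpdFun k R
  /-- projection to the groupoid of the chart -/
  pG : ∀ {B : Type u} [CommRing B] [Algebra k B] {x y : R →ₐ[k] B}, L.Hom B x y → G.Hom B x y
  /-- projection to `H` -/
  pH : ∀ {B : Type u} [CommRing B] [Algebra k B] {x y : R →ₐ[k] B}, L.Hom B x y → H.pt B
  pG_one : ∀ {B : Type u} [CommRing B] [Algebra k B] (x : R →ₐ[k] B), pG (L.one x) = G.one x
  pH_one : ∀ {B : Type u} [CommRing B] [Algebra k B] (x : R →ₐ[k] B), pH (L.one x) = 1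
  pG_mul : ∀ {B : Type u} [CommRing B] [Algebra k B] {x y z : R →ₐ[k] B}
    (l : L.Hom B x y) (m : L.Hom B y z), pG (L.mul l m) = G.mul (pG l) (pG m)
  pH_mul : ∀ {B : Type u} [CommRing B] [Algebra k B] {x y z : R →ₐ[k] B}
    (l : L.Hom B x y) (m : L.Hom B y z), pH (L.mul l m) = pH l * pH m
  pG_map : ∀ {B C : Type u} [CommRing B] [Algebra k B] [CommRing C] [Algebra k C]
    (f : B →ₐ[k] C) {x y : R →ₐ[k] B} (l : L.Hom B x y), pG (L.map f l) = G.map f (pG l)
  pH_map : ∀ {B C : Type u} [CommRing B] [Algebra k B] [CommRing C] [Algebra k C]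
    (f : B →ₐ[k] C) {x y : R →ₐ[k] B} (l : L.Hom B x y), pH (L.map f l) = H.map f (pH l)
  surj : ∀ {B : Type u} [CommRing B] [Algebra k B] {x y : R →ₐ[k] B}, good B x → good B y →
    ∀ (a : G.Hom B x y) (h : H.pt B), ∃ l : L.Hom B x y, pG l = a ∧ pH l = h
  /-- the filtration of the kernel -/
  Fil : ℕ → ∀ {B : Type u} [CommRing B] [Algebra k B] {x : R →ₐ[k] B}, L.Hom B x x → Prop
  Fil_mem_one : ∀ (j : ℕ) {B : Type u} [CommRing B] [Algebra k B] (x : R →ₐ[k] B),
    Fil j (L.one x)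
  Fil_mul : ∀ (j : ℕ) {B : Type u} [CommRing B] [Algebra k B] {x : R →ₐ[k] B}
    (l m : L.Hom B x x), Fil j l → Fil j m → Fil j (L.mul l m)
  Fil_inv : ∀ (j : ℕ) {B : Type u} [CommRing B] [Algebra k B] {x : R →ₐ[k] B}
    (l : L.Hom B x x), Fil j l → Fil j (L.inv l)
  Fil_map : ∀ (j : ℕ) {B C : Type u} [CommRing B] [Algebra k B] [CommRing C] [Algebra k C]
    (f : B →ₐ[k] C) {x : R →ₐ[k] B} (l : L.Hom B x x), Fil j l → Fil j (L.map f l)
  Fil_conj : ∀ (j : ℕ) {B : Type u} [CommRing B] [Algebra k B] {x y : R →ₐ[k] B}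
    (l : L.Hom B x y) (m : L.Hom B y y), Fil j m → Fil j (L.mul (L.mul l m) (L.inv l))
  Fil_pG : ∀ (j : ℕ) {B : Type u} [CommRing B] [Algebra k B] {x : R →ₐ[k] B}
    (l : L.Hom B x x), 1 ≤ j → Fil j l → pG l = G.one x
  Fil_pH : ∀ (j : ℕ) {B : Type u} [CommRing B] [Algebra k B] {x : R →ₐ[k] B}
    (l : L.Hom B x x), 1 ≤ j → Fil j l → pH l = 1
  Fil_one : ∀ {B : Type u} [CommRing B] [Algebra k B] {x : R →ₐ[k] B}, good B x →
    ∀ (l : L.Hom B x x), pG l = G.one x → pH l = 1 → Fil 1 l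
  Fil_last : ∀ {B : Type u} [CommRing B] [Algebra k B] {x : R →ₐ[k] B}, good B x →
    ∀ (l : L.Hom B x x), Fil (n + 1) l → l = L.one x
  Fil_succ : ∀ (j : ℕ) {B : Type u} [CommRing B] [Algebra k B] {x : R →ₐ[k] B}
    (l : L.Hom B x x), 1 ≤ j → Fil (j + 1) l → Fil j l
  /-- the graded pieces -/
  Q : ℕ → GMod G H
  /-- the projection to the graded pieces -/
  q : ∀ (j : ℕ) {B : Type u} [CommRing B] [Algebra k B] {x : R →ₐ[k] B},
    L.Hom B x x → (Q j).pt B x
  q_map : ∀ (j : ℕ) {B C : Type u} [CommRing B] [Algebra k B] [CommRing C] [Algebra k C]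
    (f : B →ₐ[k] C) {x : R →ₐ[k] B} (l : L.Hom B x x), good B x → good C (f.comp x) →
    1 ≤ j → j ≤ n → Fil j l → q j (L.map f l) = (Q j).map f x (q j l)
  q_mul : ∀ (j : ℕ) {B : Type u} [CommRing B] [Algebra k B] {x : R →ₐ[k] B},
    good B x → ∀ (l m : L.Hom B x x), 1 ≤ j → j ≤ n → Fil j l → Fil j m →
    q j (L.mul l m) = q j l + q j m
  q_surj : ∀ (j : ℕ) {B : Type u} [CommRing B] [Algebra k B] {x : R →ₐ[k] B},
    good B x → 1 ≤ j → j ≤ n → ∀ m : (Q j).pt B x, ∃ l : L.Hom B x x, Fil j l ∧ q j l = m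
  q_ker : ∀ (j : ℕ) {B : Type u} [CommRing B] [Algebra k B] {x : R →ₐ[k] B},
    good B x → ∀ l : L.Hom B x x, 1 ≤ j → j ≤ n → Fil j l → q j l = 0 → Fil (j + 1) l
  q_zero : ∀ (j : ℕ) {B : Type u} [CommRing B] [Algebra k B] {x : R →ₐ[k] B},
    good B x → ∀ l : L.Hom B x x, 1 ≤ j → j ≤ n → Fil (j + 1) l → q j l = 0
  q_conj : ∀ (j : ℕ) {B : Type u} [CommRing B] [Algebra k B] {x y : R →ₐ[k] B},
    good B x → good B y → ∀ (l : L.Hom B x y) (m : L.Hom B y y), 1 ≤ j → j ≤ n → Fil j m →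
    q j (L.mul (L.mul l m) (L.inv l)) = (Q j).act (pG l) (pH l) (q j m)

/-- **(Z2)** `H²(G, M) = 0`, in terms of natural families on good points -/
def Z2 (G : GpdFun k R) {H : GFun k} (good : Good k R) (M : GMod G H) : Prop :=
  ∀ (c : ∀ (B : Type u) [CommRing B] [Algebra k B] (x y z : R →ₐ[k] B),
      G.Hom B x y → G.Hom B y z → M.pt B x),
    (∀ (B C : Type u) [CommRing B] [Algebra k B] [CommRing C] [Algebra k C] (f : B →ₐ[k] C)
      (x y z : R →ₐ[k] B) (a : G.Hom B x y) (b : G.Hom B y z), good B x → good B y → good B z →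
      good C (f.comp x) → good C (f.comp y) → good C (f.comp z) →
      c C _ _ _ (G.map f a) (G.map f b) = M.map f x (c B x y z a b)) →
    (∀ (B : Type u) [CommRing B] [Algebra k B] (x y z w : R →ₐ[k] B) (a : G.Hom B x y)
      (b : G.Hom B y z) (d : G.Hom B z w), good B x → good B y → good B z → good B w →
      M.act a 1 (c B y z w b d) + c B x y w a (G.mul b d) =
        c B x y z a b + c B x z w (G.mul a b) d) →
    ∃ b : ∀ (B : Type u) [CommRing B] [Algebra k B] (x y : R →ₐ[k] B), G.Hom B x y → M.pt B x,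
      (∀ (B C : Type u) [CommRing B] [Algebra k B] [CommRing C] [Algebra k C] (f : B →ₐ[k] C)
        (x y : R →ₐ[k] B) (a : G.Hom B x y), good B x → good B y →
        good C (f.comp x) → good C (f.comp y) → b C _ _ (G.map f a) = M.map f x (b B x y a)) ∧
      ∀ (B : Type u) [CommRing B] [Algebra k B] (x y z : R →ₐ[k] B) (a : G.Hom B x y)
        (d : G.Hom B y z), good B x → good B y → good B z →
        c B x y z a d = M.act a 1 (b B y z d) - b B x z (G.mul a d) + b B x y a

/-- **(Z1)** `H¹(G, M ⊗ C) = 0`, `C` flat over `k`, in terms of natural families on the good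
points of `C`-algebras `(B, u : C → B)` -/
def Z1 (G : GpdFun k R) {H : GFun k} (good : Good k R) (M : GMod G H) : Prop :=
  ∀ (C : Type u) [CommRing C] [Algebra k C] [Module.Flat k C]
    (c : ∀ (B : Type u) [CommRing B] [Algebra k B] (_ : C →ₐ[k] B) (x y : R →ₐ[k] B),
      G.Hom B x y → M.pt B x),
    (∀ (B D : Type u) [CommRing B] [Algebra k B] [CommRing D] [Algebra k D] (f : B →ₐ[k] D)
      (v : C →ₐ[k] B) (x y : R →ₐ[k] B) (a : G.Hom B x y), good B x → good B y →
      good D (f.comp x) → good D (f.comp y) →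
      c D (f.comp v) _ _ (G.map f a) = M.map f x (c B v x y a)) →
    (∀ (B : Type u) [CommRing B] [Algebra k B] (v : C →ₐ[k] B) (x y z : R →ₐ[k] B)
      (a : G.Hom B x y) (b : G.Hom B y z), good B x → good B y → good B z →
      c B v x z (G.mul a b) = M.act a 1 (c B v y z b) + c B v x y a) →
    ∃ b : ∀ (B : Type u) [CommRing B] [Algebra k B] (_ : C →ₐ[k] B) (x : R →ₐ[k] B), M.pt B x,
      (∀ (B D : Type u) [CommRing B] [Algebra k B] [CommRing D] [Algebra k D] (f : B →ₐ[k] D)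
        (v : C →ₐ[k] B) (x : R →ₐ[k] B), good B x → good D (f.comp x) →
        b D (f.comp v) _ = M.map f x (b B v x)) ∧
      ∀ (B : Type u) [CommRing B] [Algebra k B] (v : C →ₐ[k] B) (x y : R →ₐ[k] B)
        (a : G.Hom B x y), good B x → good B y →
        c B v x y a = M.act a 1 (b B v y) - b B v x

/-- a natural multiplicative section `G → L` over `(id, 1)` -/
structure Sec {G : GpdFun k R} {H : GFun k} {good : Good k R} {n : ℕ} (W : FGpd G H good n) where
  /-- the section -/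
  σ : ∀ {B : Type u} [CommRing B] [Algebra k B] {x y : R →ₐ[k] B}, G.Hom B x y → W.L.Hom B x y
  nat : ∀ {B C : Type u} [CommRing B] [Algebra k B] [CommRing C] [Algebra k C]
    (f : B →ₐ[k] C) {x y : R →ₐ[k] B} (a : G.Hom B x y), σ (G.map f a) = W.L.map f (σ a)
  pG : ∀ {B : Type u} [CommRing B] [Algebra k B] {x y : R →ₐ[k] B} (a : G.Hom B x y),
    W.pG (σ a) = a
  pH : ∀ {B : Type u} [CommRing B] [Algebra k B] {x y : R →ₐ[k] B} (a : G.Hom B x y),
    W.pH (σ a) = 1
  mul : ∀ {B : Type u} [CommRing B] [Algebra k B] {x y z : R →ₐ[k] B}, good B x → good B y →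
    good B z → ∀ (a : G.Hom B x y) (b : G.Hom B y z), σ (G.mul a b) = W.L.mul (σ a) (σ b)

end Groth.Agent.ResProp.EF.K567
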