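import Groth.Agent.ResProp.EF.X56.NF

/-!
# The groupoid of points of a groupoid ring (W3a)

For `A : NFᵒᵖ ⥤ CommRingCat` with `GR A` and a ring `T`: arrows are the ring homomorphisms `g : A⟨1⟩ →+* T`, from
`g ∘ A(pt 0)` to `g ∘ A(pt 1)`; composition through `A⟨2⟩`.
-/

set_option autoImplicit false
set_option linter.dupNamespace false

open CategoryTheory Opposite

namespace Groth.Agent.ResProp.EF.K567

open K784.BC K784.PM K741.RP EF56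

universe u

noncomputable section

/-- the edge `(i, j)` -/
def edge (n : ℕ) (i j : Fin (n + 1)) : (⟨n⟩ : NF) ⟶ ⟨1⟩ := (![i, j] : Fin 2 → Fin (n + 1))

theorem edge_pt0 (n : ℕ) (i j : Fin (n + 1)) : edge n i j ≫ pt ⟨1⟩ 0 = pt ⟨n⟩ i := rfl

theorem edge_pt1 (n : ℕ) (i j : Fin (n + 1)) : edge n i j ≫ pt ⟨1⟩ 1 = pt ⟨n⟩ j := rfl

/-- the degeneracy -/
def dg : (⟨0⟩ : NF) ⟶ ⟨1⟩ := (fun _ => 0 : Fin 2 → Fin 1)

theorem pt_dg (n : ℕ) (i : Fin (n + 1)) : pt ⟨n⟩ i ≫ dg = edge n i i := by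
  funext j
  fin_cases j <;> rfl

theorem dg_pt0 : dg ≫ pt ⟨1⟩ 0 = 𝟙 (⟨0⟩ : NF) := by
  funext j
  exact Subsingleton.elim (α := Fin 1) _ _

theorem dg_pt1 : dg ≫ pt ⟨1⟩ 1 = 𝟙 (⟨0⟩ : NF) := by
  funext j
  exact Subsingleton.elim (α := Fin 1) _ _

theorem edge_id : edge 1 0 1 = 𝟙 (⟨1⟩ : NF) := by
  funext j
  fin_cases j <;> rfl

/-- the triangle `(i, j, l)` -/
def tri (n : ℕ) (i j l : Fin (n + 1)) : (⟨n⟩ : NF) ⟶ ⟨2⟩ := (![i, j, l] : Fin 3 → Fin (n + 1))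

theorem tri_01 (n : ℕ) (i j l : Fin (n + 1)) : tri n i j l ≫ edge 2 0 1 = edge n i j := by
  funext m
  fin_cases m <;> rfl

theorem tri_12 (n : ℕ) (i j l : Fin (n + 1)) : tri n i j l ≫ edge 2 1 2 = edge n j l := by
  funext m
  fin_cases m <;> rfl

theorem tri_02 (n : ℕ) (i j l : Fin (n + 1)) : tri n i j l ≫ edge 2 0 2 = edge n i l := by
  funext m
  fin_cases m <;> rfl

theorem wmap_pt (n : ℕ) (i : Fin (n + 1)) : wmap (pt ⟨n⟩ i) = edge (n + 1) i.castSucc (Fin.last (n + 1)) := by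
  funext m
  refine Fin.lastCases ?_ (fun j => ?_) m
  · exact Fin.lastCases_last (motive := fun _ => Fin (n + 2))
  · refine (Fin.lastCases_castSucc (motive := fun _ => Fin (n + 2)) _).trans ?_
    have : j = 0 := Subsingleton.elim (α := Fin 1) _ _
    subst this
    rfl

theorem pr_pt (n : ℕ) (i : Fin (n + 1)) : pr ⟨n⟩ ≫ pt ⟨n⟩ i = pt ⟨n + 1⟩ i.castSucc := rfl

theorem pr_edge (n : ℕ) (i j : Fin (n + 1)) : pr ⟨n⟩ ≫ edge n i j = edge (n + 1) i.castSucc j.castSucc := by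
  funext m
  fin_cases m <;> rfl

theorem pr_zero : pr ⟨0⟩ = pt ⟨1⟩ 0 := by
  funext j
  have : j = 0 := Subsingleton.elim (α := Fin 1) _ _
  subst this
  rfl

variable {A : NFᵒᵖ ⥤ CommRingCat.{u}} {T T' : Type u} [CommRing T] [CommRing T']

section

variable (hA : GR A)
include hA

theorem exists_extend (n : ℕ) (u : A.obj (op ⟨n⟩) →+* T) (i : Fin (n + 1)) (g : A.obj (op ⟨1⟩) →+* T)
    (e : u.comp (rg A (pt ⟨n⟩ i)) = g.comp (rg A (pt ⟨1⟩ 0))) :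
    ∃ v : A.obj (op ⟨n + 1⟩) →+* T, v.comp (rg A (pr ⟨n⟩)) = u ∧
      v.comp (rg A (edge (n + 1) i.castSucc (Fin.last (n + 1)))) = g := by
  have h := hA.po (pt ⟨n⟩ i)
  unfold IsPO at h
  let f : CommRingCat.of (A.obj (op (⟨n + 1⟩ : NF))) ⟶ CommRingCat.of T :=
    h.desc (CommRingCat.ofHom u) (CommRingCat.ofHom g) (by
      rw [pr_zero]
      ext r
      exact RingHom.congr_fun e r)
  refine ⟨f.hom, ?_, ?_⟩
  · ext r
    exact congrArg (fun F => F.hom r) (h.inl_desc (CommRingCat.ofHom u) (CommRingCat.ofHom g) _)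
  · rw [← wmap_pt]
    ext r
    exact congrArg (fun F => F.hom r) (h.inr_desc (CommRingCat.ofHom u) (CommRingCat.ofHom g) _)

theorem hom_ext_extend (n : ℕ) (i : Fin (n + 1)) {v v' : A.obj (op ⟨n + 1⟩) →+* T}
    (h1 : v.comp (rg A (pr ⟨n⟩)) = v'.comp (rg A (pr ⟨n⟩)))
    (h2 : v.comp (rg A (edge (n + 1) i.castSucc (Fin.last (n + 1)))) =
      v'.comp (rg A (edge (n + 1) i.castSucc (Fin.last (n + 1))))) : v = v' := by
  have h := hA.po (pt ⟨n⟩ i)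
  unfold IsPO at h
  have : CommRingCat.ofHom v = CommRingCat.ofHom v' := h.hom_ext (by
      ext r
      exact RingHom.congr_fun h1 r) (by
      rw [wmap_pt]
      ext r
      exact RingHom.congr_fun h2 r)
  ext r
  exact congrArg (fun F => F.hom r) this

/-- the triangle with two given edges -/
theorem existsUnique_tri (g g' : A.obj (op ⟨1⟩) →+* T)
    (e : g.comp (rg A (pt ⟨1⟩ 1)) = g'.comp (rg A (pt ⟨1⟩ 0))) :
    ∃! u : A.obj (op ⟨2⟩) →+* T, u.comp (rg A (edge 2 0 1)) = g ∧ u.comp (rg A (edge 2 1 2)) = g' := by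
  have e1 : pr ⟨1⟩ = edge 2 0 1 := by
    have := pr_edge 1 0 1
    rw [edge_id] at this
    exact this
  obtain ⟨u, h1, h2⟩ := exists_extend hA 1 g 1 g' e
  rw [e1] at h1
  refine ⟨u, ⟨h1, h2⟩, ?_⟩
  rintro u' ⟨h1', h2'⟩
  refine hom_ext_extend hA 1 1 ?_ (h2'.trans h2.symm)
  rw [e1]
  exact h1'.trans h1.symm

end

/-- composition of arrows -/
def gcomp (hA : GR A) (g g' : A.obj (op ⟨1⟩) →+* T)
    (e : g.comp (rg A (pt ⟨1⟩ 1)) = g'.comp (rg A (pt ⟨1⟩ 0))) : A.obj (op ⟨1⟩) →+* T :=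
  (existsUnique_tri hA g g' e).choose.comp (rg A (edge 2 0 2))

/-- **all composites are computed on any simplex** -/
theorem gcomp_eq (hA : GR A) {g g' : A.obj (op ⟨1⟩) →+* T}
    (e : g.comp (rg A (pt ⟨1⟩ 1)) = g'.comp (rg A (pt ⟨1⟩ 0))) (n : ℕ) (v : A.obj (op ⟨n⟩) →+* T)
    (i j l : Fin (n + 1)) (h1 : g = v.comp (rg A (edge n i j))) (h2 : g' = v.comp (rg A (edge n j l))) :
    gcomp hA g g' e = v.comp (rg A (edge n i l)) := by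
  have hu := (existsUnique_tri hA g g' e).choose_spec.2 (v.comp (rg A (tri n i j l)))
    ⟨by rw [RingHom.comp_assoc, ← rg_comp, tri_01, h1], by rw [RingHom.comp_assoc, ← rg_comp, tri_12, h2]⟩
  unfold gcomp
  rw [← hu, RingHom.comp_assoc, ← rg_comp, tri_02]

theorem gcomp_pt0 (hA : GR A) {g g' : A.obj (op ⟨1⟩) →+* T}
    (e : g.comp (rg A (pt ⟨1⟩ 1)) = g'.comp (rg A (pt ⟨1⟩ 0))) :
    (gcomp hA g g' e).comp (rg A (pt ⟨1⟩ 0)) = g.comp (rg A (pt ⟨1⟩ 0)) := by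
  unfold gcomp
  conv_rhs => rw [← (existsUnique_tri hA g g' e).choose_spec.1.1]
  rw [RingHom.comp_assoc, RingHom.comp_assoc, ← rg_comp, ← rg_comp]
  rfl

theorem gcomp_pt1 (hA : GR A) {g g' : A.obj (op ⟨1⟩) →+* T}
    (e : g.comp (rg A (pt ⟨1⟩ 1)) = g'.comp (rg A (pt ⟨1⟩ 0))) :
    (gcomp hA g g' e).comp (rg A (pt ⟨1⟩ 1)) = g'.comp (rg A (pt ⟨1⟩ 1)) := by
  unfold gcomp
  conv_rhs => rw [← (existsUnique_tri hA g g' e).choose_spec.1.2]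
  rw [RingHom.comp_assoc, RingHom.comp_assoc, ← rg_comp, ← rg_comp]
  rfl

theorem gcomp_assoc (hA : GR A) {g g' g'' : A.obj (op ⟨1⟩) →+* T}
    (e : g.comp (rg A (pt ⟨1⟩ 1)) = g'.comp (rg A (pt ⟨1⟩ 0)))
    (e' : g'.comp (rg A (pt ⟨1⟩ 1)) = g''.comp (rg A (pt ⟨1⟩ 0)))
    (e₁ : (gcomp hA g g' e).comp (rg A (pt ⟨1⟩ 1)) = g''.comp (rg A (pt ⟨1⟩ 0)))
    (e₂ : g.comp (rg A (pt ⟨1⟩ 1)) = (gcomp hA g' g'' e').comp (rg A (pt ⟨1⟩ 0))) :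
    gcomp hA (gcomp hA g g' e) g'' e₁ = gcomp hA g (gcomp hA g' g'' e') e₂ := by
  obtain ⟨⟨hu1, hu2⟩, -⟩ := (existsUnique_tri hA g g' e).choose_spec
  set u := (existsUnique_tri hA g g' e).choose with hu
  obtain ⟨v, hv1, hv2⟩ := exists_extend hA 2 u 2 g'' (by
    rw [← e', ← hu2, RingHom.comp_assoc, ← rg_comp]
    rfl)
  have p01 : g = v.comp (rg A (edge 3 0 1)) := by
    rw [← hu1, ← hv1, RingHom.comp_assoc, ← rg_comp, pr_edge]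
    rfl
  have p12 : g' = v.comp (rg A (edge 3 1 2)) := by
    rw [← hu2, ← hv1, RingHom.comp_assoc, ← rg_comp, pr_edge]
    rfl
  have p23 : g'' = v.comp (rg A (edge 3 2 3)) := hv2.symm
  rw [gcomp_eq hA e₁ 3 v 0 2 3 (gcomp_eq hA e 3 v 0 1 2 p01 p12) p23,
    gcomp_eq hA e₂ 3 v 0 1 3 p01 (gcomp_eq hA e' 3 v 1 2 3 p12 p23)]

theorem gcomp_one_left (hA : GR A) (g : A.obj (op ⟨1⟩) →+* T) (x : A.obj (op ⟨0⟩) →+* T)
    (hx : g.comp (rg A (pt ⟨1⟩ 0)) = x) (e : (x.comp (rg A dg)).comp (rg A (pt ⟨1⟩ 1)) = g.comp (rg A (pt ⟨1⟩ 0))) :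
    gcomp hA (x.comp (rg A dg)) g e = g := by
  have h := gcomp_eq hA e 1 g 0 0 1 (by rw [← hx, RingHom.comp_assoc, ← rg_comp, pt_dg])
    (by rw [edge_id, rg_id, RingHom.comp_id])
  rw [h, edge_id, rg_id, RingHom.comp_id]

theorem gcomp_one_right (hA : GR A) (g : A.obj (op ⟨1⟩) →+* T) (y : A.obj (op ⟨0⟩) →+* T)
    (hy : g.comp (rg A (pt ⟨1⟩ 1)) = y) (e : g.comp (rg A (pt ⟨1⟩ 1)) = (y.comp (rg A dg)).comp (rg A (pt ⟨1⟩ 0))) :
    gcomp hA g (y.comp (rg A dg)) e = g := by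
  have h := gcomp_eq hA e 1 g 0 1 1 (by rw [edge_id, rg_id, RingHom.comp_id])
    (by rw [← hy, RingHom.comp_assoc, ← rg_comp, pt_dg])
  rw [h, edge_id, rg_id, RingHom.comp_id]

theorem gcomp_inv (hA : GR A) (g : A.obj (op ⟨1⟩) →+* T) (x : A.obj (op ⟨0⟩) →+* T)
    (hx : g.comp (rg A (pt ⟨1⟩ 0)) = x)
    (e : g.comp (rg A (pt ⟨1⟩ 1)) = (g.comp (rg A (edge 1 1 0))).comp (rg A (pt ⟨1⟩ 0))) :
    gcomp hA g (g.comp (rg A (edge 1 1 0))) e = x.comp (rg A dg) := by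
  rw [gcomp_eq hA e 1 g 0 1 0 (by rw [edge_id, rg_id, RingHom.comp_id]) rfl, ← hx, RingHom.comp_assoc, ← rg_comp,
    pt_dg]

theorem inv_gcomp (hA : GR A) (g : A.obj (op ⟨1⟩) →+* T) (y : A.obj (op ⟨0⟩) →+* T)
    (hy : g.comp (rg A (pt ⟨1⟩ 1)) = y)
    (e : (g.comp (rg A (edge 1 1 0))).comp (rg A (pt ⟨1⟩ 1)) = g.comp (rg A (pt ⟨1⟩ 0))) :
    gcomp hA (g.comp (rg A (edge 1 1 0))) g e = y.comp (rg A dg) := by
  rw [gcomp_eq hA e 1 g 1 0 1 rfl (by rw [edge_id, rg_id, RingHom.comp_id]), ← hy, RingHom.comp_assoc, ← rg_comp,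
    pt_dg]

theorem comp_gcomp (hA : GR A) (f : T →+* T') {g g' : A.obj (op ⟨1⟩) →+* T}
    (e : g.comp (rg A (pt ⟨1⟩ 1)) = g'.comp (rg A (pt ⟨1⟩ 0)))
    (e' : (f.comp g).comp (rg A (pt ⟨1⟩ 1)) = (f.comp g').comp (rg A (pt ⟨1⟩ 0))) :
    gcomp hA (f.comp g) (f.comp g') e' = f.comp (gcomp hA g g' e) := by
  obtain ⟨⟨hu1, hu2⟩, -⟩ := (existsUnique_tri hA g g' e).choose_spec
  rw [gcomp_eq hA e' 2 (f.comp (existsUnique_tri hA g g' e).choose) 0 1 2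
    (by rw [RingHom.comp_assoc, hu1]) (by rw [RingHom.comp_assoc, hu2])]
  rfl

end

end Groth.Agent.ResProp.EF.K567
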