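import Groth.Agent.ResProp.EF.K208.Pts
import Groth.Agent.ResProp.EF.K980.BC

/-!
# Ring valued points of a Hopf algebra and their action on base changes of comodules (W3a)

`Pt O κ` : points of `O` with values in the `k`-algebra `(T, κ : k →+* T)`, as ring homomorphisms, so that no algebra
structure on `T` has to be fixed; a group.  For an `S`-module `M` with `S`-linear coaction and `v : S →+* T` a point `h`
acts `T`-linearly on `BC v M` by `bc m ↦ ∑ h(m_1) bc m_0`.
-/

set_option autoImplicit false
set_option linter.style.haveILetI false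

universe u

open TensorProduct WithConv Groth.Agent.ResProp.EF.K208 Groth.Agent.ResProp.EF.K980

noncomputable section

namespace Groth.Agent.ResProp.EF.K567

section Pt

variable {k : Type u} [CommRing k] (O : Type u) [CommRing O] [HopfAlgebra k O] {T : Type u} [CommRing T]

/-- the points of `O` with values in the `k`-algebra `(T, κ)` -/
def Pt (κ : k →+* T) : Type u := {h : O →+* T // h.comp (algebraMap k O) = κ}

variable {O} {κ : k →+* T}

namespace Pt

theorem commutes (h : Pt O κ) (r : k) : h.1 (algebraMap k O r) = κ r := RingHom.congr_fun h.2 r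

theorem smul_apply (h : Pt O κ) (r : k) (o : O) : h.1 (r • o) = κ r * h.1 o := by
  rw [Algebra.smul_def, map_mul, h.commutes]

@[ext] theorem ext {h h' : Pt O κ} (e : ∀ o, h.1 o = h'.1 o) : h = h' := Subtype.ext (RingHom.ext e)

/-- as a point in the sense of Mathlib -/
def toC (h : Pt O κ) : letI := κ.toAlgebra; WithConv (O →ₐ[k] T) :=
  letI := κ.toAlgebra
  toConv { h.1 with commutes' := fun r => h.commutes r }

/-- from a point in the sense of Mathlib -/
def ofC (f : letI := κ.toAlgebra; WithConv (O →ₐ[k] T)) : Pt O κ :=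
  letI := κ.toAlgebra
  ⟨f.ofConv.toRingHom, RingHom.ext fun r => f.ofConv.commutes r⟩

/-- the equivalence -/
def equivC : letI := κ.toAlgebra; Pt O κ ≃ WithConv (O →ₐ[k] T) :=
  letI := κ.toAlgebra
  { toFun := toC
    invFun := ofC
    left_inv := fun _ => rfl
    right_inv := fun _ => rfl }

instance : Group (Pt O κ) :=
  letI := κ.toAlgebra
  letI := convGrp (k := k) O T
  (equivC (O := O) (κ := κ)).group

theorem mul_apply (a b : Pt O κ) (Ψ : O ⊗[k] O →+ T) (hΨ : ∀ o o', Ψ (o ⊗ₜ o') = a.1 o * b.1 o') (o : O) :
    (a * b).1 o = Ψ (Coalgebra.comul (R := k) o) := by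
  letI := κ.toAlgebra
  letI := convGrp (k := k) O T
  have e1 : (a * b).1 o = (toC a * toC b).ofConv o := rfl
  rw [e1]
  have e2 := AlgHom.convMul_apply (toC a) (toC b) o
  refine e2.trans ?_
  generalize (Coalgebra.comul (R := k) o : O ⊗[k] O) = z
  induction z using TensorProduct.induction_on with
  | zero => rw [map_zero, map_zero]
  | add x y hx hy => rw [map_add, map_add, hx, hy]
  | tmul x y => rw [hΨ, Algebra.TensorProduct.lift_tmul]; rfl

theorem one_apply (o : O) : (1 : Pt O κ).1 o = κ (Coalgebra.counit (R := k) o) := rfl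

/-- change of the target ring -/
def map {T' : Type u} [CommRing T'] {κ' : k →+* T'} (f : T →+* T') (hκ : f.comp κ = κ') (h : Pt O κ) : Pt O κ' :=
  ⟨f.comp h.1, by rw [RingHom.comp_assoc, h.2, hκ]⟩

@[simp] theorem map_apply {T' : Type u} [CommRing T'] {κ' : k →+* T'} (f : T →+* T') (hκ : f.comp κ = κ')
    (h : Pt O κ) (o : O) : (map f hκ h).1 o = f (h.1 o) := rfl

theorem map_mul {T' : Type u} [CommRing T'] {κ' : k →+* T'} (f : T →+* T') (hκ : f.comp κ = κ')
    (a b : Pt O κ) : map f hκ (a * b) = map f hκ a * map f hκ b := by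
  letI i1 := κ.toAlgebra
  ext o
  let Ψ : O ⊗[k] O →+ T := (LinearMap.mul' k T ∘ₗ
    TensorProduct.map (toC a).ofConv.toLinearMap (toC b).ofConv.toLinearMap).toAddMonoidHom
  rw [map_apply, mul_apply a b Ψ (fun _ _ => rfl), mul_apply (map f hκ a) (map f hκ b) (f.toAddMonoidHom.comp Ψ)
    (fun o o' => f.map_mul _ _)]
  rfl

theorem map_one {T' : Type u} [CommRing T'] {κ' : k →+* T'} (f : T →+* T') (hκ : f.comp κ = κ') :
    map f hκ (1 : Pt O κ) = 1 := by
  ext o
  rw [map_apply, one_apply, one_apply, ← hκ]
  rfl

/-- change of the name of the algebra structure -/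
def cast {κ' : k →+* T} (e : κ = κ') (h : Pt O κ) : Pt O κ' := ⟨h.1, h.2.trans e⟩

@[simp] theorem cast_apply {κ' : k →+* T} (e : κ = κ') (h : Pt O κ) (o : O) : (cast e h).1 o = h.1 o := rfl

theorem cast_mul {κ' : k →+* T} (e : κ = κ') (a b : Pt O κ) : cast e (a * b) = cast e a * cast e b := by
  subst e; rfl

theorem cast_one {κ' : k →+* T} (e : κ = κ') : cast e (1 : Pt O κ) = 1 := by
  subst e; rfl

theorem cast_inv {κ' : k →+* T} (e : κ = κ') (a : Pt O κ) : cast e a⁻¹ = (cast e a)⁻¹ := by
  subst e; rfl

theorem cast_cast {κ' κ'' : k →+* T} (e : κ = κ') (e' : κ' = κ'') (a : Pt O κ) :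
    cast e' (cast e a) = cast (e.trans e') a := rfl

theorem cast_rfl (a : Pt O κ) : cast rfl a = a := rfl

end Pt

end Pt

/-! ### the action on base changes -/

section Act

variable {k : Type u} [CommRing k] {O : Type u} [CommRing O] [HopfAlgebra k O] {S T : Type u} [CommRing S] [Algebra k S]
  [CommRing T] {M : Type u} [AddCommGroup M] [Module S M] [Module k M] [IsScalarTower k S M]

/-- `m ⊗ o ↦ h(o) • bc m` -/
def phi (v : S →+* T) (h : Pt O (v.comp (algebraMap k S))) : M ⊗[k] O →+ BC v M :=
  TensorProduct.liftAddHom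
    { toFun := fun m =>
        { toFun := fun o => h.1 o • bc v m
          map_zero' := by rw [_root_.map_zero, zero_smul]
          map_add' := fun a b => by rw [_root_.map_add, add_smul] }
      map_zero' := by ext o; show h.1 o • bc v (0 : M) = 0; rw [_root_.map_zero, smul_zero]
      map_add' := fun a b => by
        ext o
        show h.1 o • bc v (a + b) = h.1 o • bc v a + h.1 o • bc v b
        rw [_root_.map_add, smul_add] }
    (fun r m o => by
      show h.1 o • bc v (r • m) = h.1 (r • o) • bc v m
      rw [h.smul_apply, ← algebraMap_smul S r m, LinearMap.map_smulₛₗ, smul_smul, mul_comm]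
      rfl)

@[simp] theorem phi_tmul (v : S →+* T) (h : Pt O (v.comp (algebraMap k S))) (m : M) (o : O) :
    phi v h (m ⊗ₜ[k] o) = h.1 o • bc v m := rfl

/-- an `S`-linear coaction -/
def SLin (co : HopfRep.Comod k O M) : Prop :=
  ∀ (s : S) (m : M), co.coact (s • m) =
    ((Algebra.lsmul k S M s : M →ₗ[S] M).restrictScalars k).rTensor O (co.coact m)

theorem phi_smul (v : S →+* T) (h : Pt O (v.comp (algebraMap k S))) (s : S) (z : M ⊗[k] O) :
    phi v h (((Algebra.lsmul k S M s : M →ₗ[S] M).restrictScalars k).rTensor O z) = v s • phi v h z := by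
  induction z using TensorProduct.induction_on with
  | zero => rw [_root_.map_zero, _root_.map_zero, smul_zero]
  | add x y hx hy => rw [_root_.map_add, _root_.map_add, hx, hy, _root_.map_add, smul_add]
  | tmul m o =>
    rw [LinearMap.rTensor_tmul, phi_tmul, phi_tmul]
    show h.1 o • bc v (s • m) = _
    rw [LinearMap.map_smulₛₗ, smul_comm]

/-- the action of a point -/
def act (v : S →+* T) (h : Pt O (v.comp (algebraMap k S))) (co : HopfRep.Comod k O M) (hco : SLin (S := S) co) :
    BC v M →ₗ[T] BC v M :=
  BC.lift (σ := RingHom.id T) (τ := v) (RingHom.id_comp v)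
    { toFun := fun m => phi v h (co.coact m)
      map_add' := fun a b => by rw [_root_.map_add, _root_.map_add]
      map_smul' := fun s m => by rw [hco, phi_smul] }

variable (v : S →+* T) (co : HopfRep.Comod k O M) (hco : SLin (S := S) co)

@[simp] theorem act_bc (h : Pt O (v.comp (algebraMap k S))) (m : M) :
    act v h co hco (bc v m) = phi v h (co.coact m) := BC.lift_bc _ _ m

theorem act_one : act v (1 : Pt O (v.comp (algebraMap k S))) co hco = LinearMap.id := by
  refine BC.hom_ext fun m => ?_
  rw [act_bc, LinearMap.id_apply]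
  have key : ∀ z : M ⊗[k] O, phi v (1 : Pt O (v.comp (algebraMap k S))) z =
      phi v (1 : Pt O (v.comp (algebraMap k S)))
        ((Algebra.linearMap k O).lTensor M ((Coalgebra.counit (R := k) (A := O)).lTensor M z)) := by
    intro z
    induction z using TensorProduct.induction_on with
    | zero => simp only [_root_.map_zero]
    | add x y hx hy => simp only [_root_.map_add, hx, hy]
    | tmul m o =>
      rw [LinearMap.lTensor_tmul, LinearMap.lTensor_tmul, phi_tmul, phi_tmul, Pt.one_apply]
      congr 1
      exact ((1 : Pt O (v.comp (algebraMap k S))).commutes _).symm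
  rw [key]
  have h2 := LinearMap.congr_fun co.counit_comp m
  simp only [LinearMap.comp_apply] at h2
  rw [h2]
  simp only [LinearMap.flip_apply, TensorProduct.mk_apply, LinearMap.lTensor_tmul, Algebra.linearMap_apply,
    _root_.map_one, phi_tmul, one_smul]

theorem act_mul (a b : Pt O (v.comp (algebraMap k S))) :
    act v (a * b) co hco = act v a co hco ∘ₗ act v b co hco := by
  refine BC.hom_ext fun m => ?_
  rw [LinearMap.comp_apply, act_bc, act_bc]
  letI := (v.comp (algebraMap k S)).toAlgebra
  let Ψ : O ⊗[k] O →+ T := (LinearMap.mul' k T ∘ₗ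
    TensorProduct.map (Pt.toC a).ofConv.toLinearMap (Pt.toC b).ofConv.toLinearMap).toAddMonoidHom
  have hΨ : ∀ o o', Ψ (o ⊗ₜ o') = a.1 o * b.1 o' := fun _ _ => rfl
  have hΨk : ∀ (r : k) (z : O ⊗[k] O), Ψ (r • z) = v (algebraMap k S r) * Ψ z := fun r z => by
    show (LinearMap.mul' k T ∘ₗ TensorProduct.map (Pt.toC a).ofConv.toLinearMap (Pt.toC b).ofConv.toLinearMap) (r • z) = _
    rw [_root_.map_smul]
    exact Algebra.smul_def _ _
  let Θ : M ⊗[k] (O ⊗[k] O) →+ BC v M :=
    TensorProduct.liftAddHom
      { toFun := fun m =>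
          { toFun := fun z => Ψ z • bc v m
            map_zero' := by rw [_root_.map_zero, zero_smul]
            map_add' := fun a b => by rw [_root_.map_add, add_smul] }
        map_zero' := by ext o; show Ψ o • bc v (0 : M) = 0; rw [_root_.map_zero, smul_zero]
        map_add' := fun a b => by
          ext o
          show Ψ o • bc v (a + b) = Ψ o • bc v a + Ψ o • bc v b
          rw [_root_.map_add, smul_add] }
      (fun r m z => by
        show Ψ z • bc v (r • m) = Ψ (r • z) • bc v m
        rw [hΨk, ← algebraMap_smul S r m, LinearMap.map_smulₛₗ, smul_smul, mul_comm])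
  have hΘ : ∀ m z, Θ (m ⊗ₜ z) = Ψ z • bc v m := fun _ _ => rfl
  have k1 : ∀ z : M ⊗[k] O, phi v (a * b) z = Θ ((Coalgebra.comul (R := k) (A := O)).lTensor M z) := by
    intro z
    induction z using TensorProduct.induction_on with
    | zero => simp only [_root_.map_zero]
    | add x y hx hy => simp only [_root_.map_add, hx, hy]
    | tmul m o => rw [LinearMap.lTensor_tmul, phi_tmul, hΘ, Pt.mul_apply a b Ψ hΨ]
  have k2 : ∀ z : M ⊗[k] O, act v a co hco (phi v b z) =
      Θ (TensorProduct.assoc k M O O (co.coact.rTensor O z)) := by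
    intro z
    induction z using TensorProduct.induction_on with
    | zero => simp only [_root_.map_zero]
    | add x y hx hy => simp only [_root_.map_add, hx, hy]
    | tmul m o =>
      rw [LinearMap.rTensor_tmul, phi_tmul, _root_.map_smul, act_bc]
      generalize co.coact m = w
      induction w using TensorProduct.induction_on with
      | zero => simp only [_root_.map_zero, smul_zero, TensorProduct.zero_tmul]
      | add x y hx hy => simp only [_root_.map_add, smul_add, TensorProduct.add_tmul, hx, hy]
      | tmul m' o' =>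
        rw [phi_tmul, TensorProduct.assoc_tmul, hΘ, hΨ, smul_smul, mul_comm]
  rw [k1, k2]
  congr 1
  exact (LinearMap.congr_fun co.coassoc m).symm

/-- functoriality in the target -/
theorem tr_act {T' : Type u} [CommRing T'] (f : T →+* T') {v' : S →+* T'} (hv : f.comp v = v')
    (h : Pt O (v.comp (algebraMap k S))) (z : BC v M) :
    BC.tr f hv (act v h co hco z) =
      act v' (Pt.map f (by rw [← hv]; rfl) h) co hco (BC.tr f hv z) := by
  induction z using BC.ind with
  | h0 => simp only [_root_.map_zero]
  | h2 a b ha hb => simp only [_root_.map_add, ha, hb]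
  | h1 r m =>
    rw [_root_.map_smul, LinearMap.map_smulₛₗ, LinearMap.map_smulₛₗ, _root_.map_smul, act_bc, BC.tr_bc, act_bc]
    congr 1
    generalize co.coact m = w
    induction w using TensorProduct.induction_on with
    | zero => simp only [_root_.map_zero]
    | add x y hx hy => simp only [_root_.map_add, hx, hy]
    | tmul m' o' => rw [phi_tmul, phi_tmul, LinearMap.map_smulₛₗ, BC.tr_bc]; rfl

end Act

end Groth.Agent.ResProp.EF.K567
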