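import Groth.Agent.ResProp.EF.Arch
import Groth.Agent.ResProp.EF.K567.Pt
import Groth.Agent.ResProp.EF.K567.NFGpd
import Groth.Agent.ResProp.EF.K980.Alg

/-!
# W3a: the groupoid of points of `(Γ, H)`

`ghGpd k A O : PGpd A⟨0⟩` : arrows from `x` to `y` over `T` are pairs of `g : A⟨1⟩ →+* T` from `x` to `y` and a point `h` of
the Hopf algebra `O` over `k`.  `comp (g, h) (g', h') = (g g', h' h)`.
-/

set_option autoImplicit false
set_option linter.dupNamespace false
set_option linter.style.haveILetI false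

open CategoryTheory Opposite

namespace Groth.Agent.ResProp.EF.K567

open K784.BC K784.PM K741.RP EF56 Groth.Agent.ResProp.EF.Arch Groth.Agent.ResProp.EF.K980

universe u

noncomputable section

section

variable (k : Type u) [CommRing k] (A : NFᵒᵖ ⥤ CommRingCat.{u}) [GRF k A] (O : Type u) [CommRing O] [HopfAlgebra k O]

/-- the structure map of a level -/
abbrev kap (a : NF) {T : Type u} [CommRing T] (v : A.obj (op a) →+* T) : k →+* T := v.comp (algebraMap k (A.obj (op a)))

theorem kap_comp {a b : NF} (φ : a ⟶ b) {T : Type u} [CommRing T] (v : A.obj (op a) →+* T) :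
    kap k A b (v.comp (rg A φ)) = kap k A a v := by
  ext r
  exact congrArg v (GRF.map_k φ r)

/-- arrows -/
@[ext] structure GHom {T : Type u} [CommRing T] (x y : A.obj (op ⟨0⟩) →+* T) : Type u where
  g : A.obj (op ⟨1⟩) →+* T
  s : g.comp (rg A (pt ⟨1⟩ 0)) = x
  t : g.comp (rg A (pt ⟨1⟩ 1)) = y
  h : Pt O (kap k A ⟨0⟩ x)

variable {k A O}

theorem GHom.kap_eq {T : Type u} [CommRing T] {x y : A.obj (op ⟨0⟩) →+* T} (a : GHom k A O x y) :
    kap k A ⟨0⟩ x = kap k A ⟨0⟩ y := by
  have h1 := congrArg (kap k A ⟨0⟩) a.s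
  have h2 := congrArg (kap k A ⟨0⟩) a.t
  rw [kap_comp] at h1 h2
  exact h1.symm.trans h2

variable (k A O)

/-- **the groupoid of points of `(Γ, H)`** -/
def ghGpd : PGpd.{u} (A.obj (op ⟨0⟩)) where
  Hom x y := GHom k A O x y
  id x :=
    { g := x.comp (rg A dg)
      s := by rw [RingHom.comp_assoc, ← rg_comp, dg_pt0, rg_id, RingHom.comp_id]
      t := by rw [RingHom.comp_assoc, ← rg_comp, dg_pt1, rg_id, RingHom.comp_id]
      h := 1 }
  comp a b :=
    { g := gcomp (GRF.gr k) a.g b.g (a.t.trans b.s.symm)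
      s := (gcomp_pt0 _ _).trans a.s
      t := (gcomp_pt1 _ _).trans b.t
      h := Pt.cast a.kap_eq.symm b.h * a.h }
  inv a :=
    { g := a.g.comp (rg A (edge 1 1 0))
      s := by rw [RingHom.comp_assoc, ← rg_comp]; exact a.t
      t := by rw [RingHom.comp_assoc, ← rg_comp]; exact a.s
      h := Pt.cast a.kap_eq a.h⁻¹ }
  id_comp a := by
    refine GHom.ext ?_ ?_
    · exact gcomp_one_left (GRF.gr k) a.g _ a.s (by
        rw [RingHom.comp_assoc, ← rg_comp, dg_pt1, rg_id, RingHom.comp_id, a.s])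
    · exact mul_one _
  comp_id a := by
    refine GHom.ext ?_ ?_
    · exact gcomp_one_right (GRF.gr k) a.g _ a.t (by
        rw [RingHom.comp_assoc, ← rg_comp, dg_pt0, rg_id, RingHom.comp_id, a.t])
    · change Pt.cast _ 1 * a.h = a.h
      exact (congrArg (· * a.h) (Pt.cast_one _)).trans (one_mul _)
  comp_assoc a b c := by
    refine GHom.ext ?_ ?_
    · exact gcomp_assoc (GRF.gr k) (a.t.trans b.s.symm) (b.t.trans c.s.symm)
        ((gcomp_pt1 _ _).trans (b.t.trans c.s.symm)) ((a.t.trans b.s.symm).trans (gcomp_pt0 _ _).symm)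
    · change Pt.cast _ c.h * (Pt.cast _ b.h * a.h) = Pt.cast _ (Pt.cast _ c.h * b.h) * a.h
      refine (mul_assoc _ _ _).symm.trans (congrArg (· * a.h) ?_)
      exact (Pt.cast_mul a.kap_eq.symm (Pt.cast b.kap_eq.symm c.h) b.h).symm
  comp_inv a := by
    refine GHom.ext ?_ ?_
    · exact gcomp_inv (GRF.gr k) a.g _ a.s (by
        rw [RingHom.comp_assoc, ← rg_comp]; rfl)
    · change Pt.cast a.kap_eq.symm (Pt.cast a.kap_eq a.h⁻¹) * a.h = 1
      rw [Pt.cast_cast, Pt.cast_rfl, inv_mul_cancel]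
  inv_comp a := by
    refine GHom.ext ?_ ?_
    · exact inv_gcomp (GRF.gr k) a.g _ a.t (by
        rw [RingHom.comp_assoc, ← rg_comp]; rfl)
    · change Pt.cast a.kap_eq a.h * Pt.cast a.kap_eq a.h⁻¹ = 1
      rw [← Pt.cast_mul, mul_inv_cancel, Pt.cast_one]
  pull f x y x' y' hx hy a :=
    { g := f.comp a.g
      s := by rw [RingHom.comp_assoc, a.s, hx]
      t := by rw [RingHom.comp_assoc, a.t, hy]
      h := Pt.map f (by rw [← hx]; rfl) a.h }
  pull_id f x x' hx := by
    refine GHom.ext ?_ ?_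
    · change f.comp (x.comp _) = x'.comp _
      rw [← hx]; rfl
    · exact Pt.map_one f (by rw [← hx]; rfl)
  pull_comp f x y z x' y' z' hx hy hz a b := by
    refine GHom.ext ?_ ?_
    · exact (comp_gcomp (GRF.gr k) f (a.t.trans b.s.symm)
        (by rw [RingHom.comp_assoc, RingHom.comp_assoc, a.t, b.s])).symm
    · exact Pt.map_mul f (by rw [← hx]; rfl) (Pt.cast a.kap_eq.symm b.h) a.h
  pull_idRing a := by
    refine GHom.ext rfl ?_
    apply Pt.ext
    intro o
    rfl
  pull_pull f g x y x' y' x'' y'' hx hy hx' hy' hx'' hy'' a := by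
    refine GHom.ext rfl ?_
    apply Pt.ext
    intro o
    rfl

end

end

end Groth.Agent.ResProp.EF.K567
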