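import Groth.Agent.ResProp.EF.K567.FGpd

/-!
# Gluing: `H²(G, Q j) = 0` gives a multiplicative section `G → L`
-/

namespace Groth.Agent.ResProp.EF.K567

open Groth.Agent.ResProp.EF.K104

universe u

variable {k R : Type u} [CommRing k] [CommRing R] [Algebra k R] {G : GpdFun k R} {H : GFun k}
  {good : Good k R} {n : ℕ} (W : FGpd G H good n)

namespace FGpd

section basic

variable {B : Type u} [CommRing B] [Algebra k B] {x y : R →ₐ[k] B}

theorem pG_inv (l : W.L.Hom B x y) : W.pG (W.L.inv l) = G.inv (W.pG l) := by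
  apply G.inv_unique
  rw [← W.pG_mul, W.L.inv_mul, W.pG_one]

theorem pH_inv (l : W.L.Hom B x y) : W.pH (W.L.inv l) = (W.pH l)⁻¹ := by
  apply eq_inv_of_mul_eq_one_left
  rw [← W.pH_mul, W.L.inv_mul, W.pH_one]

theorem q_one (hx : good B x) {j : ℕ} (h1 : 1 ≤ j) (h2 : j ≤ n) :
    W.q j (W.L.one x) = 0 := by
  have := W.q_mul j hx (W.L.one x) (W.L.one x) h1 h2 (W.Fil_mem_one j x) (W.Fil_mem_one j x)
  rw [W.L.one_mul] at this
  simpa using this

theorem q_inv (hx : good B x) {j : ℕ} (h1 : 1 ≤ j) (h2 : j ≤ n) (l : W.L.Hom B x x)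
    (hl : W.Fil j l) : W.q j (W.L.inv l) = - W.q j l := by
  have := W.q_mul j hx (W.L.inv l) l h1 h2 (W.Fil_inv j l hl) hl
  rw [W.L.inv_mul, W.q_one hx h1 h2] at this
  exact eq_neg_of_add_eq_zero_left this.symm

end basic

/-- a natural family `G → L` over `(id, 1)`, multiplicative modulo `Fil j` -/
structure PreSec (j : ℕ) where
  /-- the section -/
  σ : ∀ {B : Type u} [CommRing B] [Algebra k B] {x y : R →ₐ[k] B}, G.Hom B x y → W.L.Hom B x y
  nat : ∀ {B C : Type u} [CommRing B] [Algebra k B] [CommRing C] [Algebra k C]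
    (f : B →ₐ[k] C) {x y : R →ₐ[k] B} (a : G.Hom B x y), σ (G.map f a) = W.L.map f (σ a)
  pG : ∀ {B : Type u} [CommRing B] [Algebra k B] {x y : R →ₐ[k] B} (a : G.Hom B x y),
    W.pG (σ a) = a
  pH : ∀ {B : Type u} [CommRing B] [Algebra k B] {x y : R →ₐ[k] B} (a : G.Hom B x y),
    W.pH (σ a) = 1
  mul : ∀ {B : Type u} [CommRing B] [Algebra k B] {x y z : R →ₐ[k] B}, good B x → good B y →
    good B z → ∀ (a : G.Hom B x y) (b : G.Hom B y z),
    W.Fil j (W.L.mul (W.L.mul (σ a) (σ b)) (W.L.inv (σ (G.mul a b))))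

variable {W}

section

variable {Γ : Type u} [CommRing Γ] [Algebra k Γ] {s t : R →ₐ[k] Γ} {e : G.Hom Γ s t}

theorem exists_preSec_one (he : G.RepBy Γ s t e) (hs : good Γ s) (ht : good Γ t) :
    Nonempty (PreSec W 1) := by
  obtain ⟨l, hl1, hl2⟩ := W.surj hs ht e 1
  let F : PFun k R :=
    { pt := fun B _ _ x y => W.L.Hom B x y
      map := fun f _ _ a => W.L.map f a
      map_id := fun a => W.L.map_id a
      map_comp := fun f g _ _ a => W.L.map_comp f g a }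
  obtain ⟨φ, hφ, hφe⟩ := yoneda he F l
  have key : ∀ {B : Type u} [CommRing B] [Algebra k B] {x y : R →ₐ[k] B} (a : G.Hom B x y),
      W.pG (φ B x y a) = a ∧ W.pH (φ B x y a) = 1 := by
    intro B _ _ x y a
    obtain ⟨f, ⟨rfl, rfl, hf⟩, -⟩ := he B x y a
    obtain rfl := eq_of_heq hf
    have h1 := hφ _ _ f _ _ e
    rw [hφe] at h1
    change φ B _ _ (G.map f e) = W.L.map f l at h1
    rw [h1, W.pG_map, W.pH_map, hl1, hl2, map_one]
    exact ⟨rfl, rfl⟩
  refine ⟨⟨fun {B _ _ x y} a => φ B x y a, fun {B C _ _ _ _} f {x y} a => hφ B C f x y a,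
    fun a => (key a).1, fun a => (key a).2, ?_⟩⟩
  intro B _ _ x y z hx hy hz a b
  apply W.Fil_one hx
  · rw [W.pG_mul, W.pG_mul, pG_inv, (key a).1, (key b).1, (key (G.mul a b)).1, G.mul_inv]
  · rw [W.pH_mul, W.pH_mul, pH_inv, (key a).2, (key b).2, (key (G.mul a b)).2]
    simp

theorem PreSec.step (he : G.RepBy Γ s t e) (hs : good Γ s) (ht : good Γ t) {j : ℕ}
    (h1 : 1 ≤ j) (h2 : j ≤ n) (hZ : Z2 G good (W.Q j)) (S : PreSec W j) :
    Nonempty (PreSec W (j + 1)) := by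
  obtain ⟨b, hb, hbc⟩ := hZ
    (fun B _ _ x y z a d => W.q j (W.L.mul (W.L.mul (S.σ a) (S.σ d)) (W.L.inv (S.σ (G.mul a d)))))
    (by
      intro B C _ _ _ _ f x y z a d hx hy hz hx' hy' hz'
      rw [← W.q_map j f _ hx hx' h1 h2 (S.mul hx hy hz a d)]
      simp only [GpdFun.map_mul, GpdFun.map_inv, ← S.nat])
    (by
      intro B _ _ x y z w a b d hx hy hz hw
      have hc := W.q_conj j hx hy (S.σ a) _ h1 h2 (S.mul hy hz hw b d)
      rw [S.pG, S.pH] at hc
      rw [← hc, ← W.q_mul j hx _ _ h1 h2 (W.Fil_conj j _ _ (S.mul hy hz hw b d))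
        (S.mul hx hy hw a (G.mul b d)), ← W.q_mul j hx _ _ h1 h2 (S.mul hx hy hz a b)
        (S.mul hx hz hw (G.mul a b) d)]
      congr 1
      simp)
  obtain ⟨β, hβF, hβq⟩ := W.q_surj j hs h1 h2 (b Γ s t e)
  let F : PFun k R :=
    { pt := fun B _ _ x _ => W.L.Hom B x x
      map := fun f _ _ a => W.L.map f a
      map_id := fun a => W.L.map_id a
      map_comp := fun f g _ _ a => W.L.map_comp f g a }
  obtain ⟨φ, hφ, hφe⟩ := yoneda he F β
  have keyF : ∀ {B : Type u} [CommRing B] [Algebra k B] {x y : R →ₐ[k] B} (a : G.Hom B x y),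
      W.Fil j (φ B x y a : W.L.Hom B x x) := by
    intro B _ _ x y a
    obtain ⟨f, ⟨rfl, rfl, hf⟩, -⟩ := he B x y a
    obtain rfl := eq_of_heq hf
    have h1 := hφ _ _ f _ _ e
    rw [hφe] at h1
    rw [h1]
    exact W.Fil_map j f β hβF
  have keyq : ∀ {B : Type u} [CommRing B] [Algebra k B] {x y : R →ₐ[k] B} (a : G.Hom B x y),
      good B x → good B y → W.q j (φ B x y a : W.L.Hom B x x) = b B x y a := by
    intro B _ _ x y a hx hy
    obtain ⟨f, ⟨rfl, rfl, hf⟩, -⟩ := he B x y a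
    obtain rfl := eq_of_heq hf
    have h1' := hφ _ _ f _ _ e
    rw [hφe] at h1'
    rw [h1', hb _ _ f _ _ e hs ht hx hy, ← hβq]
    exact W.q_map j f β hs hx h1 h2 hβF
  have hφ' : ∀ {B C : Type u} [CommRing B] [Algebra k B] [CommRing C] [Algebra k C]
      (f : B →ₐ[k] C) (x y : R →ₐ[k] B) (a : G.Hom B x y),
      (φ C _ _ (G.map f a) : W.L.Hom C (f.comp x) (f.comp x)) =
        W.L.map f (φ B x y a : W.L.Hom B x x) := fun f x y a => hφ _ _ f x y a
  let φ' : ∀ {B : Type u} [CommRing B] [Algebra k B] {x y : R →ₐ[k] B}, G.Hom B x y →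
    W.L.Hom B x x := fun {B _ _ x y} a => φ B x y a
  refine ⟨⟨fun {B _ _ x y} a => W.L.mul (W.L.inv (φ' a)) (S.σ a), ?_, ?_, ?_, ?_⟩⟩
  · intro B C _ _ _ _ f x y a
    change W.L.mul (W.L.inv (φ C _ _ (G.map f a))) (S.σ (G.map f a)) = _
    rw [hφ' f x y a, S.nat, W.L.map_mul, W.L.map_inv]
  · intro B _ _ x y a
    rw [W.pG_mul, pG_inv, W.Fil_pG j _ h1 (keyF a), S.pG]
    simp
  · intro B _ _ x y a
    rw [W.pH_mul, pH_inv, W.Fil_pH j _ h1 (keyF a), S.pH]
    simp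
  · intro B _ _ x y z hx hy hz a d
    have e1 : W.L.mul (W.L.mul (W.L.mul (W.L.inv (φ' a)) (S.σ a))
        (W.L.mul (W.L.inv (φ' d)) (S.σ d)))
        (W.L.inv (W.L.mul (W.L.inv (φ' (G.mul a d))) (S.σ (G.mul a d)))) =
        W.L.mul (W.L.inv (φ' a)) (W.L.mul (W.L.mul (W.L.mul (S.σ a) (W.L.inv (φ' d)))
          (W.L.inv (S.σ a))) (W.L.mul (W.L.mul (W.L.mul (S.σ a) (S.σ d))
            (W.L.inv (S.σ (G.mul a d)))) (φ' (G.mul a d)))) := by
      simp
    rw [e1]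
    have f1 := W.Fil_inv j _ (keyF a)
    have f2 := W.Fil_conj j (S.σ a) _ (W.Fil_inv j _ (keyF d))
    have f3 := S.mul hx hy hz a d
    have f4 : W.Fil j (φ' (G.mul a d)) := keyF (G.mul a d)
    have f34 := W.Fil_mul j _ _ f3 f4
    have f234 := W.Fil_mul j _ _ f2 f34
    apply W.q_ker j hx _ h1 h2 (W.Fil_mul j _ _ f1 f234)
    rw [W.q_mul j hx _ _ h1 h2 f1 f234, W.q_mul j hx _ _ h1 h2 f2 f34,
      W.q_mul j hx _ _ h1 h2 f3 f4, W.q_inv hx h1 h2 _ (keyF a),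
      W.q_conj j hx hy (S.σ a) _ h1 h2 (W.Fil_inv j _ (keyF d)), S.pG, S.pH,
      W.q_inv hy h1 h2 _ (keyF d), hbc B x y z a d hx hy hz]
    have k1 : W.q j (φ B x y a : W.L.Hom B x x) = b B x y a := keyq a hx hy
    have k2 : W.q j (φ B y z d : W.L.Hom B y y) = b B y z d := keyq d hy hz
    have k3 : W.q j (φ' (G.mul a d)) = b B x z (G.mul a d) := keyq (G.mul a d) hx hz
    rw [k1, k2, k3, map_neg]
    abel

/-- **Gluing.** -/
theorem glue (he : G.RepBy Γ s t e) (hs : good Γ s) (ht : good Γ t)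
    (hZ : ∀ j, 1 ≤ j → j ≤ n → Z2 G good (W.Q j)) : Nonempty (Sec W) := by
  have key : ∀ j, j ≤ n → Nonempty (PreSec W (j + 1)) := by
    intro j
    induction j with
    | zero => exact fun _ => exists_preSec_one he hs ht
    | succ i ih =>
      intro hi
      obtain ⟨S⟩ := ih (by omega)
      exact S.step he hs ht (by omega) hi (hZ (i + 1) (by omega) hi)
  obtain ⟨S⟩ := key n le_rfl
  refine ⟨⟨fun a => S.σ a, S.nat, S.pG, S.pH, ?_⟩⟩
  intro B _ _ x y z hx hy hz a b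
  have := W.Fil_last hx _ (S.mul hx hy hz a b)
  exact (W.L.eq_of_mul_inv this).symm

end

end FGpd

end Groth.Agent.ResProp.EF.K567
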