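import Groth.Agent.ResProp.EF.K104.Iface

/-!
# Groupoid valued functors over the points of a chart (gluing step of section 5, S16912)

`GpdFun k R` : a groupoid valued functor on commutative `k`-algebras `B` whose objects are the
points `x : R →ₐ[k] B`; hand-rolled, in the style of `K104.GFun`.  `Hom B x y` is to be read as
"arrows from `y` to `x`": `mul : Hom B x y → Hom B y z → Hom B x z`.

`FGpd G H good n` is a filtered extension `L → G × H` of the groupoid `G` of the chart and a group
functor `H`, whose graded pieces are functorial modules over `G × H`.  Data for all algebras,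
properties only for the "good" (flat) points.
-/

namespace Groth.Agent.ResProp.EF.K567

open Groth.Agent.ResProp.EF.K104

universe u

/-- A groupoid valued functor with objects the `R`-points. `Hom B x y` : arrows from `y` to `x`. -/
structure GpdFun (k R : Type u) [CommRing k] [CommRing R] [Algebra k R] where
  /-- arrows -/
  Hom : ∀ (B : Type u) [CommRing B] [Algebra k B], (R →ₐ[k] B) → (R →ₐ[k] B) → Type u
  /-- units -/
  one : ∀ {B : Type u} [CommRing B] [Algebra k B] (x : R →ₐ[k] B), Hom B x x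
  /-- composition -/
  mul : ∀ {B : Type u} [CommRing B] [Algebra k B] {x y z : R →ₐ[k] B},
    Hom B x y → Hom B y z → Hom B x z
  /-- inverses -/
  inv : ∀ {B : Type u} [CommRing B] [Algebra k B] {x y : R →ₐ[k] B}, Hom B x y → Hom B y x
  assoc : ∀ {B : Type u} [CommRing B] [Algebra k B] {x y z w : R →ₐ[k] B}
    (a : Hom B x y) (b : Hom B y z) (c : Hom B z w), mul (mul a b) c = mul a (mul b c)
  one_mul : ∀ {B : Type u} [CommRing B] [Algebra k B] {x y : R →ₐ[k] B} (a : Hom B x y),
    mul (one x) a = a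
  mul_one : ∀ {B : Type u} [CommRing B] [Algebra k B] {x y : R →ₐ[k] B} (a : Hom B x y),
    mul a (one y) = a
  inv_mul : ∀ {B : Type u} [CommRing B] [Algebra k B] {x y : R →ₐ[k] B} (a : Hom B x y),
    mul (inv a) a = one y
  mul_inv : ∀ {B : Type u} [CommRing B] [Algebra k B] {x y : R →ₐ[k] B} (a : Hom B x y),
    mul a (inv a) = one x
  /-- functoriality -/
  map : ∀ {B C : Type u} [CommRing B] [Algebra k B] [CommRing C] [Algebra k C]
    (f : B →ₐ[k] C) {x y : R →ₐ[k] B}, Hom B x y → Hom C (f.comp x) (f.comp y)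
  map_id : ∀ {B : Type u} [CommRing B] [Algebra k B] {x y : R →ₐ[k] B} (a : Hom B x y),
    map (AlgHom.id k B) a = a
  map_comp : ∀ {B C D : Type u} [CommRing B] [Algebra k B] [CommRing C] [Algebra k C]
    [CommRing D] [Algebra k D] (f : B →ₐ[k] C) (g : C →ₐ[k] D) {x y : R →ₐ[k] B}
    (a : Hom B x y), map (g.comp f) a = map g (map f a)
  map_one : ∀ {B C : Type u} [CommRing B] [Algebra k B] [CommRing C] [Algebra k C]
    (f : B →ₐ[k] C) (x : R →ₐ[k] B), map f (one x) = one (f.comp x)
  map_mul : ∀ {B C : Type u} [CommRing B] [Algebra k B] [CommRing C] [Algebra k C]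
    (f : B →ₐ[k] C) {x y z : R →ₐ[k] B} (a : Hom B x y) (b : Hom B y z),
    map f (mul a b) = mul (map f a) (map f b)

attribute [simp] GpdFun.assoc GpdFun.one_mul GpdFun.mul_one GpdFun.inv_mul GpdFun.mul_inv
  GpdFun.map_one GpdFun.map_mul

namespace GpdFun

variable {k R : Type u} [CommRing k] [CommRing R] [Algebra k R] (G : GpdFun k R)
  {B : Type u} [CommRing B] [Algebra k B] {x y z : R →ₐ[k] B}

@[simp] theorem inv_mul_cancel_left (a : G.Hom B x y) (b : G.Hom B y z) :
    G.mul (G.inv a) (G.mul a b) = b := by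
  rw [← G.assoc, G.inv_mul, G.one_mul]

@[simp] theorem mul_inv_cancel_left (a : G.Hom B x y) (b : G.Hom B x z) :
    G.mul a (G.mul (G.inv a) b) = b := by
  rw [← G.assoc, G.mul_inv, G.one_mul]

theorem eq_of_mul_inv {a b : G.Hom B x y} (h : G.mul a (G.inv b) = G.one x) : a = b := by
  have := congrArg (fun t => G.mul t b) h
  simpa using this

theorem inv_unique {a : G.Hom B x y} {b : G.Hom B y x} (h : G.mul b a = G.one y) :
    b = G.inv a := by
  have := congrArg (fun t => G.mul t (G.inv a)) h
  simpa using this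

@[simp] theorem inv_inv (a : G.Hom B x y) : G.inv (G.inv a) = a :=
  (G.inv_unique (G.mul_inv a)).symm

@[simp] theorem inv_mul_rev (a : G.Hom B x y) (b : G.Hom B y z) :
    G.inv (G.mul a b) = G.mul (G.inv b) (G.inv a) := by
  symm
  apply G.inv_unique
  simp

@[simp] theorem inv_one (x : R →ₐ[k] B) : G.inv (G.one x) = G.one x :=
  (G.inv_unique (G.one_mul _)).symm

@[simp] theorem map_inv {C : Type u} [CommRing C] [Algebra k C] (f : B →ₐ[k] C)
    (a : G.Hom B x y) : G.map f (G.inv a) = G.inv (G.map f a) := by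
  apply G.inv_unique
  rw [← G.map_mul, G.inv_mul, G.map_one]

/-- transport of arrows along equalities of objects -/
def cast {x' y' : R →ₐ[k] B} (hx : x = x') (hy : y = y') (a : G.Hom B x y) : G.Hom B x' y' := by
  subst hx; subst hy; exact a

@[simp] theorem cast_rfl (a : G.Hom B x y) : G.cast rfl rfl a = a := rfl

/-- universal arrow: `G` is corepresented by `Γ` with source and target `t`, `s : R → Γ` -/
def RepBy (Γ : Type u) [CommRing Γ] [Algebra k Γ] (s t : R →ₐ[k] Γ) (e : G.Hom Γ s t) : Prop :=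
  ∀ (B : Type u) [CommRing B] [Algebra k B] (x y : R →ₐ[k] B) (a : G.Hom B x y),
    ∃! f : Γ →ₐ[k] B, f.comp s = x ∧ f.comp t = y ∧ HEq (G.map f e) a

end GpdFun

/-- a functor to types, indexed by pairs of points -/
structure PFun (k R : Type u) [CommRing k] [CommRing R] [Algebra k R] where
  /-- the value -/
  pt : ∀ (B : Type u) [CommRing B] [Algebra k B], (R →ₐ[k] B) → (R →ₐ[k] B) → Type u
  /-- functoriality -/
  map : ∀ {B C : Type u} [CommRing B] [Algebra k B] [CommRing C] [Algebra k C]
    (f : B →ₐ[k] C) {x y : R →ₐ[k] B}, pt B x y → pt C (f.comp x) (f.comp y)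
  map_id : ∀ {B : Type u} [CommRing B] [Algebra k B] {x y : R →ₐ[k] B} (a : pt B x y),
    map (AlgHom.id k B) a = a
  map_comp : ∀ {B C D : Type u} [CommRing B] [Algebra k B] [CommRing C] [Algebra k C]
    [CommRing D] [Algebra k D] (f : B →ₐ[k] C) (g : C →ₐ[k] D) {x y : R →ₐ[k] B}
    (a : pt B x y), map (g.comp f) a = map g (map f a)

/-- transport -/
def PFun.cast {k R : Type u} [CommRing k] [CommRing R] [Algebra k R] (F : PFun k R)
    {B : Type u} [CommRing B] [Algebra k B] {x y x' y' : R →ₐ[k] B} (hx : x = x') (hy : y = y')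
    (a : F.pt B x y) : F.pt B x' y' := by
  subst hx; subst hy; exact a

section Yoneda

variable {k R : Type u} [CommRing k] [CommRing R] [Algebra k R] {G : GpdFun k R}
  {Γ : Type u} [CommRing Γ] [Algebra k Γ] {s t : R →ₐ[k] Γ} {e : G.Hom Γ s t}

/-- **Yoneda**: an element over the universal arrow is the same as a natural family over all
arrows -/
theorem yoneda (he : G.RepBy Γ s t e) (F : PFun k R) (l : F.pt Γ s t) :
    ∃ φ : ∀ (B : Type u) [CommRing B] [Algebra k B] (x y : R →ₐ[k] B), G.Hom B x y → F.pt B x y,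
      (∀ (B C : Type u) [CommRing B] [Algebra k B] [CommRing C] [Algebra k C] (f : B →ₐ[k] C)
        (x y : R →ₐ[k] B) (a : G.Hom B x y), φ C _ _ (G.map f a) = F.map f (φ B x y a)) ∧
      φ Γ s t e = l := by
  classical
  choose f hf huniq using fun (B : Type u) [CommRing B] [Algebra k B] (x y : R →ₐ[k] B)
    (a : G.Hom B x y) => he B x y a
  have key : ∀ (B : Type u) [CommRing B] [Algebra k B] (g : Γ →ₐ[k] B),
      f B _ _ (G.map g e) = g := fun B _ _ g => (huniq B _ _ (G.map g e) g ⟨rfl, rfl, HEq.rfl⟩).symm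
  let φ : ∀ (B : Type u) [CommRing B] [Algebra k B] (x y : R →ₐ[k] B), G.Hom B x y → F.pt B x y :=
    fun B _ _ x y a => F.cast (hf B x y a).1 (hf B x y a).2.1 (F.map (f B x y a) l)
  have hφ : ∀ (B : Type u) [CommRing B] [Algebra k B] (g : Γ →ₐ[k] B),
      φ B _ _ (G.map g e) = F.map g l := by
    intro B _ _ g
    have aux : ∀ (g' : Γ →ₐ[k] B) (hx : g'.comp s = g.comp s) (hy : g'.comp t = g.comp t),
        g' = g → F.cast hx hy (F.map g' l) = F.map g l := by
      intro g' hx hy h
      subst h
      rfl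
    exact aux _ _ _ (key B g)
  refine ⟨φ, ?_, ?_⟩
  · intro B C _ _ _ _ g x y a
    obtain ⟨h, ⟨rfl, rfl, hh⟩, -⟩ := he B x y a
    obtain rfl := eq_of_heq hh
    rw [← G.map_comp, hφ B h, ← F.map_comp]
    exact hφ C (g.comp h)
  · have := hφ Γ (AlgHom.id k Γ)
    rw [G.map_id, F.map_id] at this
    exact this

end Yoneda

end Groth.Agent.ResProp.EF.K567
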