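import Groth.Agent.ResProp.EF.K567.WGpd
import Groth.Agent.ResProp.EF.K280.Prod

/-!
# The `SymIn` of the groupoid `wGpd` of the points of the data with symbols
-/

set_option autoImplicit false
set_option linter.unusedSectionVars false

universe u

open MvPolynomial

namespace Groth.Agent.ResProp.EF.K567

open Groth.Agent.ResProp.EF.K980 Groth.Agent.ResProp.EF.K863 Groth.Agent.ResProp.EF.K964

variable {R : Type u} [CommRing R] {D : Type u} [CommRing D] [Algebra R D] {V : Type u} [AddCommGroup V]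
  [Module D V] [Module R V] [IsScalarTower R D V] {ρ : V →ₗ[D] Ω[D⁄R]} {m : Model R D V ρ}
  {e : ℕ} {w : Fin e → ℕ} {u : Fin e → m.PP}

/-- the input of helper280's `stmtProd_of` for the groupoid `wGpd` -/
noncomputable def symW (hu : ∀ i, u i ∈ m.Fil (w i)) (wt1 : ∀ i, 1 ≤ w i) (wt2 : ∀ i, w i ≤ 2)
    (hg : ∀ n, n = 1 ∨ n = 2 → ∀ x ∈ m.Fil n, ∃ b : Fin e → m.PP, (∀ j, b j ∈ m.Fil (n - w j)) ∧
      x - ∑ j, u j * b j ∈ m.Fil (n + 1)) : K280.SymIn m (wGpd w hu) where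
  e := e
  wt := w
  wt1 := wt1
  wt2 := wt2
  u := u
  hu := hu
  hg := hg
  F := wFun hu
  N p := wN hu p
  N_id x := wN_id hu x
  N_comp p q := wN_comp hu p q
  N_pull f _ _ _ _ hx hy p := wN_pull hu f hx hy p
  N_wt p _ _ h := wN_wt hu p h
  cond p _ _ φ hφ i := wN_cond hu p φ hφ i

variable (hu : ∀ i, u i ∈ m.Fil (w i)) (wt1 : ∀ i, 1 ≤ w i) (wt2 : ∀ i, w i ≤ 2)
  (hg : ∀ n, n = 1 ∨ n = 2 → ∀ x ∈ m.Fil n, ∃ b : Fin e → m.PP, (∀ j, b j ∈ m.Fil (n - w j)) ∧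
      x - ∑ j, u j * b j ∈ m.Fil (n + 1))

@[simp] theorem symW_F {R' : Type u} [CommRing R'] {x y : R →+* R'} (p : (wGpd w hu).Hom x y) :
    (symW hu wt1 wt2 hg).F.app p = WHom.a p := rfl

end Groth.Agent.ResProp.EF.K567
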