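import Groth.Agent.ResProp.EF.K863.Dat
import Groth.Agent.ResProp.EF.K341.Semi
import Groth.Agent.ResProp.EF.K964.BcModel

/-!
# The groupoid of the points of the data with symbols (second seat of W2)

`WHom m w u x y` : an isomorphism of the base-changed data together with the matrix of the symbols of the `u i`.
`wGpd m w u hu : PGpd R`, `wFun : wGpd → datGpd m`, `symData : SymData m hn w u (wGpd ..)`.
-/

set_option autoImplicit false
set_option linter.unusedSectionVars false

universe u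

open MvPolynomial

namespace Groth.Agent.ResProp.EF.K567

open Groth.Agent.ResProp.EF.K980 Groth.Agent.ResProp.EF.K863 Groth.Agent.ResProp.EF.K964
open Groth.Agent.ResProp.EF.K341 (SHom IsSHom exists_sHom)

section

variable {R : Type*} [CommRing R] {D : Type*} [CommRing D] [Algebra R D] {V : Type*} [AddCommGroup V]
  [Module D V] [Module R V] [IsScalarTower R D V] {ρ : V →ₗ[D] Ω[D⁄R]}
  {R' : Type*} [CommRing R'] {R'' : Type*} [CommRing R''] {x y z : R →+* R'} {x' y' : R →+* R''} {f : R' →+* R''}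

/-- the map of data of an isomorphism of data -/
noncomputable def dHom (a : IsoDat ρ x y) : DatumHom (rhoBC x ρ) (rhoBC y ρ) :=
  toDatumHom a.eta a.etaV a.map_smul fun v d => (a.compat v d).1

theorem dHom_refl (x : R →+* R') : dHom (IsoDat.refl ρ x) = DatumHom.id _ := rfl

theorem dHom_trans (a : IsoDat ρ x y) (b : IsoDat ρ y z) : dHom (a.trans b) = (dHom b).comp (dHom a) := rfl

theorem dHom_comp_symm (a : IsoDat ρ x y) : (dHom a).comp (dHom a.symm) = DatumHom.id _ :=
  DatumHom.ext (AlgHom.ext fun d => a.eta.apply_symm_apply d) (AddMonoidHom.ext fun v => a.etaV.apply_symm_apply v)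

theorem dHom_symm_comp (a : IsoDat ρ x y) : (dHom a.symm).comp (dHom a) = DatumHom.id _ :=
  DatumHom.ext (AlgHom.ext fun d => a.eta.symm_apply_apply d) (AddMonoidHom.ext fun v => a.etaV.symm_apply_apply v)

/-- transport along a ring map as a map of data -/
noncomputable def trS (m : Model R D V ρ) (hx : f.comp x = x') : SHom (rhoBC x ρ) (rhoBC x' ρ) f where
  η := BC.trHom f hx
  η_alg r := by
    change BC.tr f hx (algebraMap R' (BC x D) r) = _
    rw [Algebra.algebraMap_eq_smul_one, LinearMap.map_smulₛₗ, BC.tr_one, Algebra.algebraMap_eq_smul_one]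
  ηV := (BC.tr f hx : BC x V →ₛₗ[f] BC x' V).toAddMonoidHom
  map_smul d v := tr_smul hx d v
  compat v d h := tr_compat m hx v d h

/-- its lift to the polynomial rings -/
theorem isSHom_map (m : Model R D V ρ) (hx : f.comp x = x') :
    IsSHom (m := mBC x m) (m₁ := mBC x' m) (trS m hx) (MvPolynomial.map f) := by
  refine K341.isSHom_of_X _ _ (fun r => MvPolynomial.map_C _ _) (fun i => ?_) fun i => ?_
  · rw [MvPolynomial.map_X]
    change MvPolynomial.aeval (R := R'') (fun i => bc x' (m.f (X i))) (X i) =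
      BC.tr f hx (MvPolynomial.aeval (R := R') (fun i => bc x (m.f (X i))) (X i))
    rw [aeval_X, aeval_X, BC.tr_bc]
  · rw [MvPolynomial.map_X]
    change (mBC x' m).dV (X i) = BC.tr f hx (basisBC x m.b i)
    have h1 : BC.tr f hx (basisBC x m.b i) = bc x' (m.b i) := by rw [basisBC_apply, BC.tr_bc]
    rw [Model.dV_X, h1]
    exact basisBC_apply x' m.b i

theorem map_ppMap (m : Model R D V ρ) (hx : f.comp x = x') (q : m.PP) :
    MvPolynomial.map f (ppMap x m q) = ppMap x' m q := by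
  rw [ppMap_apply, MvPolynomial.map_map, hx, ppMap_apply]

end

section W

variable {R : Type*} [CommRing R] {D : Type*} [CommRing D] [Algebra R D] {V : Type*} [AddCommGroup V]
  [Module D V] [Module R V] [IsScalarTower R D V] {ρ : V →ₗ[D] Ω[D⁄R]} (m : Model R D V ρ)
  {e : ℕ} (w : Fin e → ℕ) (u : Fin e → m.PP)

/-- the symbols of the `u i` transform by the matrix `N` -/
def WCond {R' : Type*} [CommRing R'] {x y : R →+* R'} (a : IsoDat ρ x y) (N : Matrix (Fin e) (Fin e) R') : Prop :=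
  ∀ φ : (mBC x m).PP →ₐ[R'] (mBC y m).PP, IsModelHom (m := mBC x m) (m' := mBC y m) (dHom a) φ →
    ∀ i, φ (ppMap x m (u i)) - ∑ j, N j i • ppMap y m (u j) ∈ (mBC y m).Fil (w i + 1)

/-- the matrix preserves the weights -/
def WPres {R' : Type*} [CommRing R'] (N : Matrix (Fin e) (Fin e) R') : Prop :=
  ∀ (i j : Fin e), w i ≠ w j → N i j = 0

variable {m w u}

section cond

variable {R' : Type*} [CommRing R'] {R'' : Type*} [CommRing R''] {x y z : R →+* R'} {x' y' : R →+* R''}
  {f : R' →+* R''}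

theorem WPres.one : WPres w (1 : Matrix (Fin e) (Fin e) R') := fun i j h =>
  Matrix.one_apply_ne fun hij => h (congrArg w hij)

theorem WPres.mul {N P : Matrix (Fin e) (Fin e) R'} (hN : WPres w N) (hP : WPres w P) : WPres w (N * P) := fun i j h => by
  rw [Matrix.mul_apply]
  refine Finset.sum_eq_zero fun l _ => ?_
  by_cases h1 : w i = w l
  · rw [hP l j (fun h2 => h (h1.trans h2)), mul_zero]
  · rw [hN i l h1, zero_mul]

theorem WPres.map {N : Matrix (Fin e) (Fin e) R'} (hN : WPres w N) (f : R' →+* R'') : WPres w (N.map f) := fun i j h => by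
  rw [Matrix.map_apply, hN i j h, map_zero]

/-- one lift is enough -/
theorem WCond.of_one (hu : ∀ i, u i ∈ m.Fil (w i)) {a : IsoDat ρ x y} {N : Matrix (Fin e) (Fin e) R'}
    (φ : (mBC x m).PP →ₐ[R'] (mBC y m).PP) (hφ : IsModelHom (m := mBC x m) (m' := mBC y m) (dHom a) φ)
    (h : ∀ i, φ (ppMap x m (u i)) - ∑ j, N j i • ppMap y m (u j) ∈ (mBC y m).Fil (w i + 1)) : WCond m w u a N := by
  intro ψ hψ i
  have h1 := (IsSHom.ofModelHom hψ).sub_mem_Fil_succ (IsSHom.ofModelHom hφ) (w i) (ppMap_mem_Fil x m (hu i))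
  have h2 := Ideal.add_mem _ h1 (h i)
  change ψ (ppMap x m (u i)) - φ (ppMap x m (u i)) + _ ∈ _ at h2
  rwa [sub_add_sub_cancel] at h2

theorem WCond.refl (hu : ∀ i, u i ∈ m.Fil (w i)) (x : R →+* R') : WCond m w u (IsoDat.refl ρ x) 1 := by
  refine WCond.of_one hu (AlgHom.id R' _) (IsModelHom.id _) fun i => ?_
  have : ∑ j, (1 : Matrix (Fin e) (Fin e) R') j i • ppMap x m (u j) = ppMap x m (u i) := by
    rw [Finset.sum_eq_single i]
    · rw [Matrix.one_apply_eq, one_smul]
    · intro j _ hj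
      rw [Matrix.one_apply_ne hj, zero_smul]
    · intro hi; exact absurd (Finset.mem_univ i) hi
  rw [this, AlgHom.id_apply, sub_self]
  exact Ideal.zero_mem _

/-- auxiliary: transport of the congruences along a map respecting the filtrations -/
theorem sum_mem_aux {y : R →+* R'} {p : ℕ} (N : Matrix (Fin e) (Fin e) R') (hN : WPres w N) (i : Fin e)
    (q : Fin e → (mBC y m).PP) (hq : ∀ j, q j ∈ (mBC y m).Fil (w j + p)) :
    ∑ j, N j i • q j ∈ (mBC y m).Fil (w i + p) := by
  refine Ideal.sum_mem _ fun j _ => ?_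
  by_cases h : w j = w i
  · rw [← h]
    exact Submodule.smul_of_tower_mem _ _ (hq j)
  · rw [hN j i h, zero_smul]
    exact Ideal.zero_mem _

theorem WCond.trans (hu : ∀ i, u i ∈ m.Fil (w i)) {a : IsoDat ρ x y} {b : IsoDat ρ y z}
    {N P : Matrix (Fin e) (Fin e) R'} (hN : WPres w N) (ha : WCond m w u a N) (hb : WCond m w u b P) :
    WCond m w u (a.trans b) (P * N) := by
  obtain ⟨φ, hφ⟩ := exists_modelHom (mBC x m) (mBC y m) (dHom a)
  obtain ⟨ψ, hψ⟩ := exists_modelHom (mBC y m) (mBC z m) (dHom b)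
  refine WCond.of_one hu (ψ.comp φ) (hψ.comp hφ) fun i => ?_
  have h1 : ψ (φ (ppMap x m (u i)) - ∑ j, N j i • ppMap y m (u j)) ∈ (mBC z m).Fil (w i + 1) :=
    hψ.map_Fil (ha φ hφ i)
  have h2 := sum_mem_aux (m := m) (p := 1) N hN i (fun j => ψ (ppMap y m (u j)) - ∑ l, P l j • ppMap z m (u l))
    fun j => hb ψ hψ j
  have h3 := Ideal.add_mem _ h1 h2
  have e1 : ψ (φ (ppMap x m (u i)) - ∑ j, N j i • ppMap y m (u j)) +
      ∑ j, N j i • (ψ (ppMap y m (u j)) - ∑ l, P l j • ppMap z m (u l)) =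
      (ψ.comp φ) (ppMap x m (u i)) - ∑ l, (P * N) l i • ppMap z m (u l) := by
    rw [map_sub, map_sum, AlgHom.comp_apply]
    simp only [map_smul, smul_sub, Finset.sum_sub_distrib]
    have e2 : ∑ l, (P * N) l i • ppMap z m (u l) = ∑ j, N j i • ∑ l, P l j • ppMap z m (u l) := by
      simp only [Matrix.mul_apply, Finset.sum_smul, Finset.smul_sum, smul_smul]
      rw [Finset.sum_comm]
      exact Finset.sum_congr rfl fun j _ => Finset.sum_congr rfl fun l _ => by rw [mul_comm]
    rw [e2, sub_add_sub_cancel]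
  rwa [e1] at h3

theorem WCond.symm (hu : ∀ i, u i ∈ m.Fil (w i)) {a : IsoDat ρ x y}
    {N N' : Matrix (Fin e) (Fin e) R'} (hN' : WPres w N') (hNN' : N * N' = 1) (ha : WCond m w u a N) :
    WCond m w u a.symm N' := by
  obtain ⟨φ, hφ⟩ := exists_modelHom (mBC y m) (mBC x m) (dHom a.symm)
  obtain ⟨ψ, hψ⟩ := exists_modelHom (mBC x m) (mBC y m) (dHom a)
  refine WCond.of_one hu φ hφ fun i => ?_
  have hid : IsModelHom (m := mBC x m) (m' := mBC x m) (DatumHom.id _) (φ.comp ψ) := by
    rw [← dHom_symm_comp a]; exact hφ.comp hψ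
  -- `φ (ψ q) - q` raises the filtration
  have h0 : ∀ (p : ℕ) (q : (mBC x m).PP), q ∈ (mBC x m).Fil p → φ (ψ q) - q ∈ (mBC x m).Fil (p + 1) := fun p q hq =>
    (IsSHom.ofModelHom hid).sub_mem_Fil_succ (IsSHom.ofModelHom (IsModelHom.id (mBC x m))) p hq
  have h1 := sum_mem_aux (m := m) (p := 1) N' hN' i (fun j => ψ (ppMap x m (u j)) - ∑ l, N l j • ppMap y m (u l))
    fun j => ha ψ hψ j
  have e1 : ∑ j, N' j i • (ψ (ppMap x m (u j)) - ∑ l, N l j • ppMap y m (u l)) =
      ∑ j, N' j i • ψ (ppMap x m (u j)) - ppMap y m (u i) := by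
    simp only [smul_sub, Finset.sum_sub_distrib]
    congr 1
    have e2 : ∑ j, N' j i • ∑ l, N l j • ppMap y m (u l) = ∑ l, (N * N') l i • ppMap y m (u l) := by
      simp only [Matrix.mul_apply, Finset.sum_smul, Finset.smul_sum, smul_smul]
      rw [Finset.sum_comm]
      exact Finset.sum_congr rfl fun j _ => Finset.sum_congr rfl fun l _ => by rw [mul_comm]
    rw [e2, hNN', Finset.sum_eq_single i]
    · rw [Matrix.one_apply_eq, one_smul]
    · intro j _ hj
      rw [Matrix.one_apply_ne hj, zero_smul]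
    · intro hi; exact absurd (Finset.mem_univ i) hi
  rw [e1] at h1
  have h2 : φ (∑ j, N' j i • ψ (ppMap x m (u j)) - ppMap y m (u i)) ∈ (mBC x m).Fil (w i + 1) := hφ.map_Fil h1
  have h3 := sum_mem_aux (m := m) (p := 1) N' hN' i (fun j => φ (ψ (ppMap x m (u j))) - ppMap x m (u j))
    fun j => h0 (w j) _ (ppMap_mem_Fil x m (hu j))
  have h4 := Ideal.sub_mem _ h3 h2
  have e3 : ∑ j, N' j i • (φ (ψ (ppMap x m (u j))) - ppMap x m (u j)) -
      φ (∑ j, N' j i • ψ (ppMap x m (u j)) - ppMap y m (u i)) =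
      φ (ppMap y m (u i)) - ∑ j, N' j i • ppMap x m (u j) := by
    rw [map_sub, map_sum]
    simp only [map_smul, smul_sub, Finset.sum_sub_distrib]
    abel
  rwa [e3] at h4

theorem WCond.pull (hu : ∀ i, u i ∈ m.Fil (w i)) (hx : f.comp x = x') (hy : f.comp y = y') {a : IsoDat ρ x y}
    {N : Matrix (Fin e) (Fin e) R'} (ha : WCond m w u a N) : WCond m w u (a.pull m f hx hy) (N.map f) := by
  intro φ' hφ' i
  obtain ⟨φ, hφ⟩ := exists_modelHom (mBC x m) (mBC y m) (dHom a)
  have s1 := (IsSHom.ofModelHom hφ').comp (isSHom_map m hx)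
  have s2 := (isSHom_map m hy).comp (IsSHom.ofModelHom hφ)
  -- the two maps of data agree
  have hη : (SHom.ofDatumHom (dHom (a.pull m f hx hy))).η.comp (trS m hx).η =
      (trS m hy).η.comp (SHom.ofDatumHom (dHom a)).η := by
    refine RingHom.ext fun d => ?_
    change pullA f hx hy a.eta (BC.tr f hx d) = BC.tr f hy (a.eta d)
    exact BC.pullE_tr hx hy a.eta.toLinearEquiv d
  have hV : ∀ v, BC.pullE f hx hy a.etaV (BC.tr f hx v) = BC.tr f hy (a.etaV v) := fun v =>
    BC.pullE_tr hx hy a.etaV v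
  have s2' : IsSHom (m := mBC x m) (m₁ := mBC y' m) ((SHom.ofDatumHom (dHom (a.pull m f hx hy))).comp (trS m hx))
      ((MvPolynomial.map f).comp (φ : (mBC x m).PP →+* (mBC y m).PP)) := by
    refine ⟨fun r => ?_, fun q => ?_, fun q => ?_⟩
    · rw [s2.map_C]; rfl
    · rw [s2.f_eq]
      exact (DFunLike.congr_fun hη _).symm
    · rw [s2.dV_eq]
      exact (hV _).symm
  have h1 := s1.sub_mem_Fil_succ s2' (w i) (ppMap_mem_Fil x m (hu i))
  have h2 : MvPolynomial.map f (φ (ppMap x m (u i)) - ∑ j, N j i • ppMap y m (u j)) ∈ (mBC y' m).Fil (w i + 1) :=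
    (isSHom_map m hy).map_Fil (ha φ hφ i)
  have h3 := Ideal.add_mem _ h1 h2
  have e1 : (((φ' : (mBC x' m).PP →+* (mBC y' m).PP).comp (MvPolynomial.map f)) (ppMap x m (u i)) -
      ((MvPolynomial.map f).comp (φ : (mBC x m).PP →+* (mBC y m).PP)) (ppMap x m (u i))) +
      MvPolynomial.map f (φ (ppMap x m (u i)) - ∑ j, N j i • ppMap y m (u j)) =
      φ' (ppMap x' m (u i)) - ∑ j, (N.map f) j i • ppMap y' m (u j) := by
    rw [RingHom.comp_apply, RingHom.comp_apply, map_sub, map_sum, map_ppMap m hx]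
    have e2 : ∀ j, MvPolynomial.map f (N j i • ppMap y m (u j)) = (N.map f) j i • ppMap y' m (u j) := fun j => by
      rw [MvPolynomial.smul_eq_C_mul, map_mul, map_ppMap m hy, MvPolynomial.map_C, Matrix.map_apply,
        MvPolynomial.smul_eq_C_mul]
    rw [Finset.sum_congr rfl fun j _ => e2 j]
    exact sub_add_sub_cancel _ _ _
  rwa [e1] at h3

end cond

end W

section gpd

variable {R : Type u} [CommRing R] {D : Type u} [CommRing D] [Algebra R D] {V : Type u} [AddCommGroup V]
  [Module D V] [Module R V] [IsScalarTower R D V] {ρ : V →ₗ[D] Ω[D⁄R]} (m : Model R D V ρ)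
  {e : ℕ} (w : Fin e → ℕ) (u : Fin e → m.PP)

/-- An isomorphism of data with the matrix of the symbols. -/
structure WHom {R' : Type u} [CommRing R'] (x y : R →+* R') where
  /-- the isomorphism of data -/
  a : IsoDat ρ x y
  /-- the matrix -/
  M : (Matrix (Fin e) (Fin e) R')ˣ
  wt : WPres w (M : Matrix (Fin e) (Fin e) R')
  wt' : WPres w ((M⁻¹ : (Matrix (Fin e) (Fin e) R')ˣ) : Matrix (Fin e) (Fin e) R')
  cond : WCond m w u a (M : Matrix (Fin e) (Fin e) R')

variable {m w u}

namespace WHom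

variable {R' R'' : Type u} [CommRing R'] [CommRing R''] {x y z : R →+* R'} {x' y' : R →+* R''}

@[ext] theorem ext {p q : WHom m w u x y} (h1 : p.a = q.a) (h2 : (p.M : Matrix (Fin e) (Fin e) R') = q.M) : p = q := by
  cases p; cases q
  obtain rfl := h1
  obtain rfl := Units.ext h2
  rfl

/-- identity -/
noncomputable def id (hu : ∀ i, u i ∈ m.Fil (w i)) (x : R →+* R') : WHom m w u x x where
  a := IsoDat.refl ρ x
  M := 1
  wt := WPres.one
  wt' := by rw [inv_one]; exact WPres.one
  cond := WCond.refl hu x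

/-- composition -/
noncomputable def comp (hu : ∀ i, u i ∈ m.Fil (w i)) (p : WHom m w u x y) (q : WHom m w u y z) : WHom m w u x z where
  a := p.a.trans q.a
  M := q.M * p.M
  wt := by rw [Units.val_mul]; exact q.wt.mul p.wt
  wt' := by rw [mul_inv_rev, Units.val_mul]; exact p.wt'.mul q.wt'
  cond := by rw [Units.val_mul]; exact WCond.trans hu p.wt p.cond q.cond

/-- inverse -/
noncomputable def inv (hu : ∀ i, u i ∈ m.Fil (w i)) (p : WHom m w u x y) : WHom m w u y x where
  a := p.a.symm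
  M := p.M⁻¹
  wt := p.wt'
  wt' := by rw [inv_inv]; exact p.wt
  cond := WCond.symm hu p.wt' p.M.mul_inv p.cond

/-- pull-back -/
noncomputable def pull (hu : ∀ i, u i ∈ m.Fil (w i)) (f : R' →+* R'') (hx : f.comp x = x') (hy : f.comp y = y')
    (p : WHom m w u x y) : WHom m w u x' y' where
  a := p.a.pull m f hx hy
  M := Units.map (RingHom.mapMatrix f : Matrix (Fin e) (Fin e) R' →+* Matrix (Fin e) (Fin e) R'').toMonoidHom p.M
  wt := p.wt.map f
  wt' := by rw [← map_inv]; exact p.wt'.map f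
  cond := WCond.pull hu hx hy p.cond

@[simp] theorem pull_M (hu : ∀ i, u i ∈ m.Fil (w i)) (f : R' →+* R'') (hx : f.comp x = x') (hy : f.comp y = y')
    (p : WHom m w u x y) : ((p.pull hu f hx hy).M : Matrix (Fin e) (Fin e) R'') = (p.M : Matrix _ _ R').map f := rfl

end WHom

variable (w) in
/-- **The groupoid of points of the data with symbols.** -/
noncomputable def wGpd (hu : ∀ i, u i ∈ m.Fil (w i)) : PGpd.{u} R where
  Hom x y := WHom m w u x y
  id x := WHom.id hu x
  comp p q := WHom.comp hu p q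
  inv p := WHom.inv hu p
  id_comp p := WHom.ext ((datGpd m).id_comp p.a) (mul_one _)
  comp_id p := WHom.ext ((datGpd m).comp_id p.a) (one_mul _)
  comp_assoc p q r := WHom.ext ((datGpd m).comp_assoc p.a q.a r.a) (mul_assoc _ _ _).symm
  comp_inv p := WHom.ext ((datGpd m).comp_inv p.a) (p.M.inv_mul)
  inv_comp p := WHom.ext ((datGpd m).inv_comp p.a) (p.M.mul_inv)
  pull f _ _ _ _ hx hy p := WHom.pull hu f hx hy p
  pull_id f _ _ hx := WHom.ext ((datGpd m).pull_id f hx) (by
    rw [WHom.pull_M]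
    exact Matrix.map_one f (map_zero f) (map_one f))
  pull_comp f _ _ _ _ _ _ hx hy hz p q := WHom.ext ((datGpd m).pull_comp f hx hy hz p.a q.a) (by
    rw [WHom.pull_M]
    exact Matrix.map_mul)
  pull_idRing p := WHom.ext ((datGpd m).pull_idRing p.a) rfl
  pull_pull f g _ _ _ _ _ _ hx hy hx' hy' hx'' hy'' p :=
    WHom.ext ((datGpd m).pull_pull f g hx hy hx' hy' hx'' hy'' p.a) rfl

/-- the functor to the groupoid of the data -/
noncomputable def wFun (hu : ∀ i, u i ∈ m.Fil (w i)) : PGpd.Fun (wGpd w hu) (datGpd m) where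
  app p := WHom.a p
  app_id _ := rfl
  app_comp _ _ := rfl
  app_pull _ _ _ _ _ _ _ _ := rfl

/-- an arrow is determined by the isomorphism of data and the matrix -/
theorem wGpd_ext (hu : ∀ i, u i ∈ m.Fil (w i)) {R' : Type u} [CommRing R'] {x y : R →+* R'}
    {p q : (wGpd w hu).Hom x y} (h1 : WHom.a p = WHom.a q)
    (h2 : (WHom.M p : Matrix (Fin e) (Fin e) R') = (WHom.M q : Matrix (Fin e) (Fin e) R')) : p = q := WHom.ext h1 h2

section fields

variable (hu : ∀ i, u i ∈ m.Fil (w i)) {R' R'' : Type u} [CommRing R'] [CommRing R'']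

/-- the matrix of an arrow -/
def wN {x y : R →+* R'} (p : (wGpd w hu).Hom x y) : Matrix (Fin e) (Fin e) R' :=
  ((WHom.M p : (Matrix (Fin e) (Fin e) R')ˣ) : Matrix (Fin e) (Fin e) R')

theorem wN_id (x : R →+* R') : wN hu ((wGpd w hu).id x) = 1 := rfl

theorem wN_comp {x y z : R →+* R'} (p : (wGpd w hu).Hom x y) (q : (wGpd w hu).Hom y z) :
    wN hu ((wGpd w hu).comp p q) = wN hu q * wN hu p := rfl

theorem wN_pull (f : R' →+* R'') {x y : R →+* R'} {x' y' : R →+* R''} (hx : f.comp x = x') (hy : f.comp y = y')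
    (p : (wGpd w hu).Hom x y) : wN hu ((wGpd w hu).pull f hx hy p) = (wN hu p).map f := rfl

theorem wN_wt {x y : R →+* R'} (p : (wGpd w hu).Hom x y) {i j : Fin e} (h : wN hu p i j ≠ 0) : w i = w j := by
  by_contra h1
  exact h (WHom.wt p i j h1)

theorem wN_cond {x y : R →+* R'} (p : (wGpd w hu).Hom x y) (φ : (mBC x m).PP →ₐ[R'] (mBC y m).PP)
    (hφ : IsModelHom (m := mBC x m) (m' := mBC y m) (dHom ((wFun hu).app p)) φ) (i : Fin e) :
    φ (ppMap x m (u i)) - ∑ j, wN hu p j i • ppMap y m (u j) ∈ (mBC y m).Fil (w i + 1) := WHom.cond p φ hφ i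

end fields

end gpd

end Groth.Agent.ResProp.EF.K567
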